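import Cfsg.Agent.Lib.Classical.DicksonSL
import Cfsg.Agent.Lib.Classical.SLNormal
import Cfsg.Agent.Lib.Grp.HHPLength

/-!
Facts on `PSL(2, F)`: abelian Sylow subgroups, perfectness, commuting elements.
-/

set_option autoImplicit false
set_option maxHeartbeats 1000000

universe w x

namespace Cfsg.Agent.Transfer.SizesPSL

open Cfsg.Agent.Grp.SL2 Cfsg.Agent.Dickson Cfsg.Agent.PSL2Spec

variable {F : Type x} [Field F] [Fintype F]

local notation "SL₂" => Matrix.SpecialLinearGroup (Fin 2) F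
local notation "PSL₂" => Matrix.ProjectiveSpecialLinearGroup (Fin 2) F

theorem psl_commutator_eq_top (h4 : 4 ≤ Fintype.card F) : commutator PSL₂ = ⊤ := by
  have h : commutator SL₂ = ⊤ :=
    Classical.SL_commutator_eq_top fun _ => Classical.exists_sq_ne_one_field h4
  rw [commutator_def, ← Subgroup.map_top_of_surjective (proj : SL₂ →* PSL₂) proj_surjective,
    ← Subgroup.map_commutator, ← commutator_def, h]

theorem neg_one_ne_one (hodd : ¬ 2 ∣ Fintype.card F) : (-1 : SL₂) ≠ 1 := fun h => by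
  have hF : ringChar F ≠ 2 := fun hc => hodd (Nat.dvd_of_mod_eq_zero (FiniteField.even_card_of_char_two hc))
  have h2 : ((-1 : SL₂) : Matrix (Fin 2) (Fin 2) F) 0 0 = (1 : Matrix (Fin 2) (Fin 2) F) 0 0 := by rw [h]; rfl
  simp at h2
  exact Ring.neg_one_ne_one_of_char_ne_two hF h2

/-- The Sylow subgroups for odd primes, and for all primes in characteristic two, are abelian. -/
theorem sl_sylow_comm {r : ℕ} [hr : Fact r.Prime] (hr2 : r ≠ 2 ∨ 2 ∣ Fintype.card F) (R : Sylow r SL₂) :
    IsMulCommutative (R : Subgroup SL₂) := by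
  have hscal : ∀ x : SL₂, x ∈ (R : Subgroup SL₂) → IsScalar x → x = 1 := by
    intro x hx hs
    rcases hs with rfl | rfl
    · rfl
    by_contra hne
    rcases hr2 with h2 | h2
    · obtain ⟨k, hk⟩ := R.isPGroup' ⟨-1, hx⟩
      have h1 : (-1 : SL₂) ^ r ^ k = 1 := congrArg Subtype.val hk
      exact hne ((hr.out.odd_of_ne_two h2).pow.neg_one_pow.symm.trans h1)
    · refine hne (Subtype.ext ?_)
      haveI : CharP F 2 := ringChar.of_eq (FiniteField.even_card_iff_char_two.2 (Nat.mod_eq_zero_of_dvd h2))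
      ext i j
      fin_cases i <;> fin_cases j <;> simp [CharTwo.neg_eq]
  by_cases htriv : Subsingleton (R : Subgroup SL₂)
  · exact ⟨⟨fun a b => Subsingleton.elim _ _⟩⟩
  haveI : Nontrivial (R : Subgroup SL₂) := not_subsingleton_iff_nontrivial.1 htriv
  haveI := R.isPGroup'.center_nontrivial
  obtain ⟨⟨⟨z, hzR⟩, hzc⟩, hz⟩ := exists_ne (1 : Subgroup.center (R : Subgroup SL₂))
  have hzs : ¬ IsScalar z := fun hs => hz (Subtype.ext (Subtype.ext (hscal z hzR hs)))
  refine ⟨⟨fun a b => Subtype.ext ?_⟩⟩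
  have ha : Commute (a : SL₂) z := congrArg Subtype.val (Subgroup.mem_center_iff.1 hzc a)
  have hb : Commute (b : SL₂) z := congrArg Subtype.val (Subgroup.mem_center_iff.1 hzc b)
  exact (commute_trans hzs ha hb.symm).eq

theorem psl_sylow_comm {r : ℕ} [Fact r.Prime] (hr2 : r ≠ 2 ∨ 2 ∣ Fintype.card F) (R : Sylow r PSL₂) :
    IsMulCommutative (R : Subgroup PSL₂) :=
  Grp.HHP.sylow_commutative_of_surjective (proj : SL₂ →* PSL₂) proj_surjective (sl_sylow_comm hr2) R

/-- No element of odd order centralises a four-group. -/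
theorem psl_no_commute (hodd : ¬ 2 ∣ Fintype.card F) {y a b : PSL₂} (hy1 : y ≠ 1) (hy : Odd (orderOf y))
    (ha : orderOf a = 2) (hb : orderOf b = 2) (hab : a ≠ b) (hcab : Commute a b) (hya : Commute a y)
    (hyb : Commute b y) : False := by
  have hm1 := neg_one_ne_one (F := F) hodd
  obtain ⟨Y₀, rfl⟩ := proj_surjective y
  have hpow : IsScalar (Y₀ ^ orderOf (proj Y₀)) := proj_one_iff.1 (by rw [map_pow, pow_orderOf_eq_one])
  obtain ⟨Y, hYp, hYo⟩ : ∃ Y : SL₂, proj Y = proj Y₀ ∧ Y ^ orderOf (proj Y₀) = 1 := by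
    rcases hpow with h | h
    · exact ⟨Y₀, rfl, h⟩
    · exact ⟨-Y₀, proj_neg Y₀, by rw [hy.neg_pow, h, neg_neg]⟩
  rw [← hYp] at hy1 hya hyb
  have hYs : ¬ IsScalar Y := fun h => hy1 (proj_one_iff.2 h)
  have key : ∀ A : SL₂, Commute (proj A) (proj Y) → Commute A Y := by
    intro A hA
    have h1 : proj Y = proj (A * Y * A⁻¹) := by
      rw [map_mul, map_mul, map_inv, hA.eq, mul_inv_cancel_right]
    rcases proj_eq_iff.1 h1 with e | e
    · exact mul_inv_eq_iff_eq_mul.1 e
    · exfalso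
      have h2 : (A * Y * A⁻¹) ^ orderOf (proj Y₀) = 1 := by rw [conj_pow, hYo, mul_one, mul_inv_cancel]
      rw [e, hy.neg_pow, hYo] at h2
      exact hm1 h2
  have hsq : ∀ {c : PSL₂}, orderOf c = 2 → ∀ C : SL₂, proj C = c → C * C = -1 := by
    intro c hc C hC
    have h1 : IsScalar (C * C) := proj_one_iff.1 (by
      rw [map_mul, hC, ← pow_two]
      exact orderOf_dvd_iff_pow_eq_one.1 (dvd_of_eq hc))
    rcases h1 with h | h
    · have hF : (2 : F) ≠ 0 := Ring.two_ne_zero (fun hc =>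
        hodd (Nat.dvd_of_mod_eq_zero (FiniteField.even_card_of_char_two hc)))
      have hc1 : c = 1 := hC ▸ proj_one_iff.2 (mul_self_eq_one hF h)
      rw [hc1, orderOf_one] at hc
      omega
    · exact h
  obtain ⟨A, rfl⟩ := proj_surjective a
  obtain ⟨B, rfl⟩ := proj_surjective b
  have hA := hsq ha A rfl
  have hB := hsq hb B rfl
  have hAB : Commute A B := commute_trans hYs (key A hya) (key B hyb).symm
  have hF : (2 : F) ≠ 0 := Ring.two_ne_zero (fun hc =>
    hodd (Nat.dvd_of_mod_eq_zero (FiniteField.even_card_of_char_two hc)))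
  have h2 : A * B * (A * B) = 1 := by
    rw [← pow_two, hAB.mul_pow, pow_two, pow_two, hA, hB, neg_one_mul, neg_neg]
  have h3 : proj A * proj B = 1 := by rw [← map_mul]; exact proj_one_iff.2 (mul_self_eq_one hF h2)
  have hB2 : proj B * proj B = 1 := by rw [← pow_two]; exact orderOf_dvd_iff_pow_eq_one.1 (dvd_of_eq hb)
  exact hab (mul_right_cancel (h3.trans hB2.symm))

end Cfsg.Agent.Transfer.SizesPSL
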