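import Cfsg.Agent.Lib.Transfer.SizesPSL.Count

/-!
Groups of order `quv` whose centralisers have order `q`, `u`, `v` or `v/2`, with `q` an odd prime power:
the three components.
-/

set_option autoImplicit false
set_option maxHeartbeats 1000000

open scoped Pointwise

universe w

namespace Cfsg.Agent.Transfer.SizesPSL

open Cfsg Cfsg.Agent Cfsg.Agent.Transfer.ClassDisconnected Cfsg.Agent.Transfer.ClassThree

variable {G : Type w} [Group G] [Finite G] {p f q u v : ℕ}

/-- The hypothesis on the central quotient. -/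
structure Hyp (G : Type w) [Group G] (p f q u v : ℕ) : Prop where
  hp : p.Prime
  hq : q = p ^ f
  rel : (q + 1 = 2 * u ∧ v + 1 = q) ∨ (q = 2 * u + 1 ∧ v = q + 1)
  q7 : 7 ≤ q
  uodd : ¬ 2 ∣ u
  hcard : Nat.card G = q * (u * v)
  hcen : ∀ a : G, a ≠ 1 → Nat.card (cen a) = q ∨ Nat.card (cen a) = u ∨ Nat.card (cen a) = v ∨
    2 * Nat.card (cen a) = v

namespace Hyp

variable (d : Hyp G p f q u v)

include d

theorem u3 : 3 ≤ u := by
  have := d.q7; have := d.uodd; rcases d.rel with h | h <;> omega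

theorem q_odd : ¬ 2 ∣ q := by rcases d.rel with h | h <;> omega

theorem p_ne_two : p ≠ 2 := by
  rintro rfl
  have h := d.q_odd
  rw [d.hq] at h
  have := d.q7
  rw [d.hq] at this
  rcases f with _ | f
  · simp at this
  · exact h (dvd_pow_self 2 f.succ_ne_zero)

theorem p_dvd_q : p ∣ q := by
  have := d.q7
  rw [d.hq] at this ⊢
  rcases f with _ | f
  · simp at this
  · exact dvd_pow_self p f.succ_ne_zero

theorem four_dvd_v : 4 ∣ v := by
  have := d.uodd
  rcases d.rel with h | h <;> omega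

theorem v_pos : 0 < v := by have := d.q7; rcases d.rel with h | h <;> omega

theorem cqu : q.Coprime u := Nat.coprime_of_dvd fun r hr h1 h2 => by
  have h3 : r ∣ 2 * u := Dvd.dvd.mul_left h2 2
  rcases d.rel with ⟨h, -⟩ | ⟨h, -⟩
  · exact hr.ne_one (Nat.dvd_one.1 ((Nat.dvd_add_right h1).1 (h ▸ h3)))
  · exact hr.ne_one (Nat.dvd_one.1 ((Nat.dvd_add_right h3).1 (h ▸ h1)))

theorem cqv : q.Coprime v := Nat.coprime_of_dvd fun r hr h1 h2 => by
  rcases d.rel with ⟨-, h⟩ | ⟨-, h⟩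
  · exact hr.ne_one (Nat.dvd_one.1 ((Nat.dvd_add_right h2).1 (h ▸ h1)))
  · exact hr.ne_one (Nat.dvd_one.1 ((Nat.dvd_add_right h1).1 (h ▸ h2)))

theorem cuv : u.Coprime v := Nat.coprime_of_dvd fun r hr h1 h2 => by
  have h3 : r ∣ 2 * u := Dvd.dvd.mul_left h1 2
  have h4 : r ∣ 2 := by
    rcases d.rel with ⟨h, h'⟩ | ⟨h, h'⟩
    · exact (Nat.dvd_add_right h2).1 (show r ∣ v + 2 by rw [show v + 2 = 2 * u by omega]; exact h3)
    · exact (Nat.dvd_add_right h3).1 (show r ∣ 2 * u + 2 by rw [show 2 * u + 2 = v by omega]; exact h2)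
  exact d.uodd ((Nat.prime_dvd_prime_iff_eq hr Nat.prime_two).1 h4 ▸ h1)

theorem not_both {r : ℕ} (hr : r.Prime) :
    ¬ (r ∣ q ∧ r ∣ u) ∧ ¬ (r ∣ q ∧ r ∣ v) ∧ ¬ (r ∣ u ∧ r ∣ v) :=
  ⟨fun h => hr.ne_one (Nat.eq_one_of_dvd_coprimes d.cqu h.1 h.2),
    fun h => hr.ne_one (Nat.eq_one_of_dvd_coprimes d.cqv h.1 h.2),
    fun h => hr.ne_one (Nat.eq_one_of_dvd_coprimes d.cuv h.1 h.2)⟩

theorem p_not : ¬ p ∣ u ∧ ¬ p ∣ v :=
  ⟨fun h => (d.not_both d.hp).1 ⟨d.p_dvd_q, h⟩, fun h => (d.not_both d.hp).2.1 ⟨d.p_dvd_q, h⟩⟩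

theorem cases_dvd {a : G} (ha : a ≠ 1) {r : ℕ} (hr : r.Prime) (h : r ∣ Nat.card (cen a)) :
    (r ∣ q → Nat.card (cen a) = q) ∧ (r ∣ u → Nat.card (cen a) = u) ∧
      (r ∣ v → Nat.card (cen a) = v ∨ 2 * Nat.card (cen a) = v) := by
  obtain ⟨n1, n2, n3⟩ := d.not_both hr
  rcases d.hcen a ha with e | e | e | e
  · refine ⟨fun _ => e, fun hu => absurd ⟨e ▸ h, hu⟩ n1, fun hv => absurd ⟨e ▸ h, hv⟩ n2⟩
  · refine ⟨fun hq => absurd ⟨hq, e ▸ h⟩ n1, fun _ => e, fun hv => absurd ⟨e ▸ h, hv⟩ n3⟩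
  · refine ⟨fun hq => absurd ⟨hq, e ▸ h⟩ n2, fun hu => absurd ⟨hu, e ▸ h⟩ n3, fun _ => Or.inl e⟩
  · have hv : r ∣ v := e ▸ Dvd.dvd.mul_left h 2
    exact ⟨fun hq => absurd ⟨hq, hv⟩ n2, fun hu => absurd ⟨hu, hv⟩ n3, fun _ => Or.inr e⟩

omit d in
theorem dvd_card_cen {a : G} {r : ℕ} (h : r ∣ orderOf a) : r ∣ Nat.card (cen a) :=
  h.trans (Subgroup.orderOf_dvd_natCard _ (self_mem_cen a))

theorem comp_p {a : G} (ha : a ≠ 1) (h : p ∣ orderOf a) : Nat.card (cen a) = q :=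
  (d.cases_dvd ha d.hp (dvd_card_cen h)).1 d.p_dvd_q

theorem isPGroup_cen {a : G} (h : Nat.card (cen a) = q) : IsPGroup p (cen a) :=
  IsPGroup.of_card (n := f) (h.trans d.hq)

theorem not_commute_p {a b : G} (ha : Nat.card (cen a) = q) (hb : Commute b a) {r : ℕ} (hr : r.Prime)
    (hrp : r ≠ p) (hrb : r ∣ orderOf b) : False := by
  have h1 := hrb.trans (Subgroup.orderOf_dvd_natCard (cen a) (mem_cen.2 hb))
  rw [ha, d.hq] at h1
  exact hrp ((Nat.prime_dvd_prime_iff_eq hr d.hp).1 (hr.dvd_of_dvd_pow h1))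

theorem cix_eq {a : G} {n m : ℕ} (h : Nat.card (cen a) = n) (he : n * m = q * (u * v)) : cix a = m := by
  have h1 := card_mul_cix a
  rw [h, d.hcard, ← he] at h1
  have hpos : 0 < n := h ▸ Nat.card_pos
  exact Nat.eq_of_mul_eq_mul_left hpos h1

/-- The elements with centraliser of order `q`. -/
def PS (_d : Hyp G p f q u v) : Set G := {a | a ≠ 1 ∧ Nat.card (cen a) = q}

/-- The elements with centraliser of order `u`. -/
def US (_d : Hyp G p f q u v) : Set G := {a | a ≠ 1 ∧ Nat.card (cen a) = u}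

/-- The elements with centraliser of order `v` or `v / 2`. -/
def VS (_d : Hyp G p f q u v) : Set G := {a | a ≠ 1 ∧ (Nat.card (cen a) = v ∨ 2 * Nat.card (cen a) = v)}

omit d in
theorem cen_card_conj {a b : G} (h : IsConj a b) : Nat.card (cen a) = Nat.card (cen b) := by
  obtain ⟨g, rfl⟩ := isConj_iff.1 h
  have h1 := card_mul_cix a
  rw [← card_mul_cix (g * a * g⁻¹), cix_conj] at h1
  exact Nat.eq_of_mul_eq_mul_right (cix_pos a) h1

omit d in
theorem conj_ne_one {a b : G} (h : IsConj a b) (ha : a ≠ 1) : b ≠ 1 := fun e => by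
  subst e
  exact ha (isConj_one_left.1 h)

theorem distinct : q ≠ u ∧ q ≠ v ∧ u ≠ v ∧ 2 * q ≠ v ∧ 2 * u ≠ v := by
  have := d.q7; have := d.uodd
  rcases d.rel with h | h <;> omega

theorem card_sum : (d.PS).ncard + (d.US).ncard + (d.VS).ncard + 1 = q * (u * v) := by
  obtain ⟨h1, h2, h3, h4, h5⟩ := d.distinct
  have hd1 : Disjoint d.PS d.US := Set.disjoint_left.2 fun a ha hb => h1 (ha.2.symm.trans hb.2)
  have hd2 : Disjoint (d.PS ∪ d.US) d.VS := Set.disjoint_left.2 fun a ha hb => by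
    rcases ha with ha | ha <;> rcases hb.2 with hb | hb <;> have := ha.2 <;> omega
  have hd3 : Disjoint (d.PS ∪ d.US ∪ d.VS) ({1} : Set G) := Set.disjoint_left.2 fun a ha hb => by
    rw [Set.mem_singleton_iff] at hb
    rcases ha with (ha | ha) | ha <;> exact ha.1 hb
  have hu : d.PS ∪ d.US ∪ d.VS ∪ {1} = Set.univ := by
    refine Set.eq_univ_of_forall fun a => ?_
    by_cases ha : a = 1
    · exact Or.inr ha
    rcases d.hcen a ha with e | e | e | e
    · exact Or.inl (Or.inl (Or.inl ⟨ha, e⟩))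
    · exact Or.inl (Or.inl (Or.inr ⟨ha, e⟩))
    · exact Or.inl (Or.inr ⟨ha, Or.inl e⟩)
    · exact Or.inl (Or.inr ⟨ha, Or.inr e⟩)
  rw [← Set.ncard_union_eq hd1, ← Set.ncard_union_eq hd2, ← Set.ncard_singleton (1 : G),
    ← Set.ncard_union_eq hd3, hu, Set.ncard_univ, d.hcard]

/-- The sizes of the three components. -/
theorem counts : (d.PS).ncard + 1 = q * q ∧
    (∃ e, 2 * e + 1 = u ∧ (d.US).ncard = e * (q * v)) ∧
    (∃ g, (d.VS).ncard = g * (q * u) ∧ (q = 2 * u + 1 → g = u)) := by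
  obtain ⟨e, he⟩ := dvd_ncard_invariant (s := u * v) d.PS
    (fun a ha b hab => ⟨conj_ne_one hab ha.1, (cen_card_conj hab) ▸ ha.2⟩)
    (fun a ha => (d.cix_eq ha.2 rfl).symm ▸ dvd_rfl)
  obtain ⟨k, hk⟩ := dvd_ncard_invariant (s := q * v) d.US
    (fun a ha b hab => ⟨conj_ne_one hab ha.1, (cen_card_conj hab) ▸ ha.2⟩)
    (fun a ha => (d.cix_eq ha.2 (m := q * v) (by ring)).symm ▸ dvd_rfl)
  obtain ⟨g, hg⟩ := dvd_ncard_invariant (s := q * u) d.VS
    (fun a ha b hab => ⟨conj_ne_one hab ha.1, (cen_card_conj hab) ▸ ha.2⟩)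
    (fun a ha => by
      rcases ha.2 with e | e
      · exact (d.cix_eq e (m := q * u) (by ring)).symm ▸ dvd_rfl
      · obtain ⟨v', hv'⟩ := (show (4 : ℕ) ∣ v from d.four_dvd_v)
        refine (d.cix_eq rfl (m := 2 * (q * u)) ?_).symm ▸ dvd_mul_left _ 2
        calc Nat.card (cen a) * (2 * (q * u)) = (2 * Nat.card (cen a)) * (q * u) := by ring
          _ = q * (u * v) := by rw [e]; ring)
  have hs := d.card_sum
  rw [he, hk, hg] at hs
  have h2uv : 2 * (u * v) + 1 = q * q := by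
    rcases d.rel with ⟨h1, h2⟩ | ⟨h1, h2⟩
    · subst h2; nlinarith
    · subst h2; subst h1; ring
  have hq7 := d.q7
  have huvpos : 0 < u * v := Nat.mul_pos (by have := d.u3; omega) d.v_pos
  have hlt : e < q := by
    by_contra hc
    have h1 : q * (u * v) ≤ u * v * e := by
      calc q * (u * v) = u * v * q := by ring
        _ ≤ u * v * e := Nat.mul_le_mul_left _ (by omega)
    omega
  have he2 : e = 2 := by
    have hz : (q : ℤ) ∣ (e : ℤ) - 2 := by
      refine ⟨(q : ℤ) * e + 2 * ((v : ℤ) * k) + 2 * ((u : ℤ) * g) - 2 * ((u : ℤ) * v), ?_⟩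
      have h1 : (2 * (u * v) + 1 : ℤ) = q * q := by exact_mod_cast h2uv
      have h2 : ((u * v * e + q * v * k + q * u * g + 1 : ℕ) : ℤ) = (q * (u * v) : ℕ) := by
        exact_mod_cast hs
      push_cast at h2
      linear_combination (e : ℤ) * h1 - 2 * h2
    obtain ⟨c, hc⟩ := hz
    have hc0 : c = 0 := by
      by_contra hne
      rcases lt_or_gt_of_ne hne with hlt' | hlt'
      · have : c ≤ -1 := by omega
        nlinarith
      · have : 1 ≤ c := by omega
        nlinarith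
    rw [hc0, mul_zero] at hc
    omega
  subst he2
  have hP : (d.PS).ncard + 1 = q * q := by rw [he, ← h2uv]; ring
  have hrest : q + v * k + u * g = u * v := by
    have h1 : q * (q + v * k + u * g) = q * (u * v) := by
      rw [← hs, mul_add, mul_add, ← h2uv]; ring
    exact Nat.eq_of_mul_eq_mul_left (by omega) h1
  have hk2 : 2 * k + 1 = u := by
    have hku : k < u := by
      by_contra hc
      have : u * v ≤ v * k := by rw [mul_comm u v]; exact Nat.mul_le_mul_left _ (by omega)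
      omega
    have hz : (u : ℤ) ∣ 2 * (k : ℤ) + 1 := by
      have h1 : ((q + v * k + u * g : ℕ) : ℤ) = ((u * v : ℕ) : ℤ) := by exact_mod_cast hrest
      push_cast at h1
      rcases d.rel with ⟨a1, a2⟩ | ⟨a1, a2⟩
      · refine ⟨2 + 2 * k + g - v, ?_⟩
        have b1 : (q : ℤ) + 1 = 2 * u := by exact_mod_cast a1
        have b2 : (v : ℤ) + 1 = q := by exact_mod_cast a2
        linear_combination (-1 : ℤ) * h1 + ((k : ℤ) + 1) * b1 + (k : ℤ) * b2
      · refine ⟨v - g - 2 * k - 2, ?_⟩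
        have b1 : (q : ℤ) = 2 * u + 1 := by exact_mod_cast a1
        have b2 : (v : ℤ) = q + 1 := by exact_mod_cast a2
        linear_combination h1 - (k : ℤ) * b2 - ((k : ℤ) + 1) * b1
    obtain ⟨c, hc⟩ := hz
    have hcu : 0 < (u : ℤ) := by have := d.u3; omega
    have hc1 : c = 1 := by
      have l1 : 0 < c := by
        by_contra hh
        push Not at hh
        nlinarith
      have l2 : c < 2 := by
        by_contra hh
        push Not at hh
        nlinarith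
      omega
    rw [hc1, mul_one] at hc
    omega
  refine ⟨hP, ⟨k, hk2, by rw [hk]; ring⟩, ⟨g, by rw [hg]; ring, fun hq' => ?_⟩⟩
  obtain ⟨h1, h2⟩ : q = 2 * u + 1 ∧ v = q + 1 := by
    rcases d.rel with ⟨a1, a2⟩ | hh
    · omega
    · exact hh
  subst h2; subst h1; subst hk2
  have h3 : (2 * k + 1) * g = (2 * k + 1) * (2 * k + 1) := by nlinarith
  exact Nat.eq_of_mul_eq_mul_left (by omega) h3

end Hyp

end Cfsg.Agent.Transfer.SizesPSL
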