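import Cfsg.Agent.Lib.Transfer.ClassThree.Basic
import Cfsg.Agent.Lib.Recog.FpfFour

/-!
Small counting and fixed-point lemmas.
-/

set_option autoImplicit false
set_option maxHeartbeats 1000000

open scoped Pointwise

universe w

namespace Cfsg.Agent.Transfer.SizesPSL

open Cfsg Cfsg.Agent Cfsg.Agent.Transfer.ClassDisconnected Cfsg.Agent.Transfer.ClassThree

variable {G : Type w} [Group G] [Finite G]

/-- A union of classes with all sizes divisible by `s` has size divisible by `s`. -/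
theorem dvd_ncard_invariant {s : ℕ} (S : Set G) (hS : ∀ a ∈ S, ∀ b, IsConj a b → b ∈ S)
    (hd : ∀ a ∈ S, s ∣ cix a) : s ∣ S.ncard := by
  obtain ⟨n, hn⟩ : ∃ n, S.ncard = n := ⟨_, rfl⟩
  induction n using Nat.strong_induction_on generalizing S with
  | _ n ih =>
    rcases S.eq_empty_or_nonempty with rfl | ⟨a, ha⟩
    · simp
    have hsub : cl a ⊆ S := fun b hb => hS a ha b hb
    have hlt : (S \ cl a).ncard < n := hn ▸ Set.ncard_lt_ncard
      ⟨Set.diff_subset, fun h => (h ha).2 (IsConj.refl a)⟩ (Set.toFinite S)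
    have h1 := ih _ hlt (S \ cl a) (fun b hb c hbc => ⟨hS b hb.1 c hbc, fun hc =>
      hb.2 (IsConj.trans hc hbc.symm)⟩) (fun b hb => hd b hb.1) rfl
    rw [← Set.ncard_sdiff_add_ncard_of_subset hsub (Set.toFinite S)]
    exact Nat.dvd_add h1 (ncard_cl a ▸ hd a ha)

omit [Finite G] in
theorem conj_mem_of_normalizer {N : Subgroup G} {g : G} (hg : g ∈ Subgroup.normalizer (N : Set G)) {x : G}
    (hx : x ∈ N) : g * x * g⁻¹ ∈ N := (Subgroup.mem_normalizer_iff.1 hg x).1 hx

/-- An element of order two normalising `N` without fixed points inverts it. -/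
theorem inverts_of_normalizer {N : Subgroup G} {s : G} (hs : s * s = 1)
    (hn : s ∈ Subgroup.normalizer (N : Set G)) (hfix : ∀ x ∈ N, Commute s x → x = 1) {x : G} (hx : x ∈ N) :
    s * x * s⁻¹ = x⁻¹ := by
  set σ : MulAut N := N.normalizerMonoidHom ⟨s, hn⟩ with hσ
  have hval : ∀ y : N, ((σ y : N) : G) = s * y * s⁻¹ := fun y => rfl
  have h := Cfsg.Agent.FpfFour.inverted_of_sq_fixed σ (fun y hy => Subtype.ext (hfix y y.2 ?_)) ⟨x, hx⟩
    (Subtype.ext ?_)
  · have h1 := congrArg Subtype.val h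
    rwa [hval, InvMemClass.coe_inv] at h1
  · have h1 := congrArg Subtype.val hy
    rw [hval] at h1
    exact mul_inv_eq_iff_eq_mul.1 h1
  · rw [hval, hval]
    calc s * (s * x * s⁻¹) * s⁻¹ = (s * s) * x * (s * s)⁻¹ := by group
      _ = x := by rw [hs, one_mul, inv_one, mul_one]

omit [Finite G] in
theorem commute_of_inverted {s x y : G} (hx : s * x * s⁻¹ = x⁻¹) (hy : s * y * s⁻¹ = y⁻¹)
    (hxy : s * (x * y) * s⁻¹ = (x * y)⁻¹) : Commute x y := by
  have h : s * (x * y) * s⁻¹ = (s * x * s⁻¹) * (s * y * s⁻¹) := by group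
  rw [hx, hy, hxy, mul_inv_rev] at h
  have h2 := congrArg Inv.inv h
  show x * y = y * x
  simpa using h2

/-- A fixed-point-free element of order `p` forces the order to be `1` modulo `p`. -/
theorem card_modEq_one {p : ℕ} [hp : Fact p.Prime] {T : Subgroup G} {b : G} (hb : orderOf b = p)
    (hbT : b ∈ Subgroup.normalizer (T : Set G)) (hfix : ∀ x ∈ T, Commute b x → x = 1) :
    Nat.card T ≡ 1 [MOD p] := by
  let f : Subgroup.zpowers b →* MulAut T :=
    T.normalizerMonoidHom.comp (Subgroup.inclusion (Subgroup.zpowers_le.2 hbT))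
  letI : MulAction (Subgroup.zpowers b) T :=
    { smul := fun g x => f g x
      one_smul := fun x => by show f 1 x = x; rw [map_one]; rfl
      mul_smul := fun g h x => by show f (g * h) x = f g (f h x); rw [map_mul]; rfl }
  have hP : IsPGroup p (Subgroup.zpowers b) := isPGroup_zpowers (i := 1) (by rw [hb, pow_one])
  have h := hP.card_modEq_card_fixedPoints T
  have h1 : MulAction.fixedPoints (Subgroup.zpowers b) T = {1} := by
    ext x
    constructor
    · intro hx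
      refine Subtype.ext (hfix x x.2 ?_)
      have h2 := congrArg Subtype.val (hx ⟨b, Subgroup.mem_zpowers b⟩)
      exact mul_inv_eq_iff_eq_mul.1 h2
    · rintro rfl g
      exact map_one (f g)
  rw [h1] at h
  simpa using h

omit [Finite G] in
theorem exists_not_mem_not_mem {A B : Subgroup G} (hA : A ≠ ⊤) (hB : B ≠ ⊤) : ∃ y, y ∉ A ∧ y ∉ B := by
  obtain ⟨a, ha⟩ : ∃ a, a ∉ A := by
    by_contra h; push Not at h; exact hA (eq_top_iff.2 fun g _ => h g)
  obtain ⟨b, hb⟩ : ∃ b, b ∉ B := by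
    by_contra h; push Not at h; exact hB (eq_top_iff.2 fun g _ => h g)
  by_cases haB : a ∈ B
  · by_cases hbA : b ∈ A
    · exact ⟨a * b, fun h => ha ((A.mul_mem_cancel_right hbA).1 h),
        fun h => hb ((B.mul_mem_cancel_left haB).1 h)⟩
    · exact ⟨b, hbA, hb⟩
  · exact ⟨a, ha, haB⟩

/-- When all classes have size at most two there is at most one nontrivial commutator `⁅g, x⁆`. -/
theorem commutator_eq {T : Subgroup G}
    (hsz : ∀ x ∈ T, ∀ g ∈ T, ∀ h ∈ T, ¬ Commute g x → ¬ Commute h x →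
      g * x * g⁻¹ = h * x * h⁻¹) {g x h y : G} (hg : g ∈ T) (hx : x ∈ T) (hh : h ∈ T) (hy : y ∈ T)
    (h1 : ¬ Commute g x) (h2 : ¬ Commute h y) : g * x * g⁻¹ * x⁻¹ = h * y * h⁻¹ * y⁻¹ := by
  obtain ⟨z, hzx, hzy⟩ := exists_not_mem_not_mem
    (A := (Subgroup.centralizer ({x} : Set G)).subgroupOf T) (B := (Subgroup.centralizer ({y} : Set G)).subgroupOf T)
    (fun e => h1 (mem_cen.1 (Subgroup.subgroupOf_eq_top.1 e hg)))
    (fun e => h2 (mem_cen.1 (Subgroup.subgroupOf_eq_top.1 e hh)))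
  have hzx' : ¬ Commute (z : G) x := fun hc => hzx (Subgroup.mem_subgroupOf.2 (mem_cen.2 hc))
  have hzy' : ¬ Commute (z : G) y := fun hc => hzy (Subgroup.mem_subgroupOf.2 (mem_cen.2 hc))
  have e1 := hsz x hx g hg z z.2 h1 hzx'
  have e2 := hsz y hy h hh z z.2 h2 hzy'
  have e3 := hsz z z.2 x hx y hy (fun hc => hzx' hc.symm) (fun hc => hzy' hc.symm)
  rw [e1, e2]
  have e4 : x * (z : G) * x⁻¹ * (z : G)⁻¹ = y * z * y⁻¹ * (z : G)⁻¹ := by rw [e3]
  have e5 := congrArg Inv.inv e4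
  simpa [mul_inv_rev, mul_assoc] using e5

/-- Counting the conjugates of the nonidentity elements of a trivial intersection subgroup. -/
theorem ncard_TI (A : Subgroup G) (S : Set G)
    (hTI : ∀ g a : G, a ∈ A → a ≠ 1 → g * a * g⁻¹ ∈ A → g ∈ Subgroup.normalizer (A : Set G))
    (hS : ∀ b : G, b ∈ S ↔ ∃ g a : G, a ∈ A ∧ a ≠ 1 ∧ g * a * g⁻¹ = b) :
    Nat.card G * (Nat.card A - 1) = S.ncard * Nat.card (Subgroup.normalizer (A : Set G)) := by
  classical
  haveI := Fintype.ofFinite G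
  let X := {x : G × A // (x.2 : G) ≠ 1}
  let φ : X → S := fun x => ⟨x.1.1 * x.1.2 * x.1.1⁻¹, (hS _).2 ⟨x.1.1, x.1.2, x.1.2.2, x.2, rfl⟩⟩
  have hfib : ∀ b : S, Nat.card {x : X // φ x = b} = Nat.card (Subgroup.normalizer (A : Set G)) := by
    rintro ⟨b, hb⟩
    obtain ⟨g₀, a₀, ha₀, ha1, he⟩ := (hS b).1 hb
    let toN : {x : X // φ x = ⟨b, hb⟩} → Subgroup.normalizer (A : Set G) := fun x =>
      ⟨g₀⁻¹ * x.1.1.1, hTI _ (x.1.1.2 : G) x.1.1.2.2 x.1.2 (by
        have h1 : x.1.1.1 * (x.1.1.2 : G) * x.1.1.1⁻¹ = b := congrArg Subtype.val x.2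
        rw [show g₀⁻¹ * x.1.1.1 * (x.1.1.2 : G) * (g₀⁻¹ * x.1.1.1)⁻¹ =
          g₀⁻¹ * (x.1.1.1 * (x.1.1.2 : G) * x.1.1.1⁻¹) * g₀ by group, h1, ← he,
          show g₀⁻¹ * (g₀ * a₀ * g₀⁻¹) * g₀ = a₀ by group]
        exact ha₀)⟩
    refine Nat.card_eq_of_bijective toN ⟨fun x y hxy => ?_, fun n => ?_⟩
    · have hg : x.1.1.1 = y.1.1.1 := mul_left_cancel (congrArg Subtype.val hxy)
      have hx : x.1.1.1 * (x.1.1.2 : G) * x.1.1.1⁻¹ = b := congrArg Subtype.val x.2
      have hy : y.1.1.1 * (y.1.1.2 : G) * y.1.1.1⁻¹ = b := congrArg Subtype.val y.2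
      refine Subtype.ext (Subtype.ext (Prod.ext hg (Subtype.ext ?_)))
      have hxy' := hx.trans hy.symm
      rw [hg] at hxy'
      exact mul_left_cancel (mul_right_cancel hxy')
    · have ha : (n : G)⁻¹ * a₀ * (n : G) ∈ A := by
        have := conj_mem_of_normalizer (inv_mem n.2) ha₀
        rwa [inv_inv] at this
      have hne : (n : G)⁻¹ * a₀ * (n : G) ≠ 1 := fun e => ha1 (by
        calc a₀ = (n : G) * ((n : G)⁻¹ * a₀ * (n : G)) * (n : G)⁻¹ := by group
          _ = 1 := by rw [e]; group)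
      refine ⟨⟨⟨(g₀ * n, ⟨_, ha⟩), hne⟩, Subtype.ext ?_⟩, Subtype.ext ?_⟩
      · show g₀ * (n : G) * ((n : G)⁻¹ * a₀ * (n : G)) * (g₀ * (n : G))⁻¹ = b
        rw [← he]; group
      · show g₀⁻¹ * (g₀ * (n : G)) = (n : G)
        group
  have hX : Nat.card X = Nat.card G * (Nat.card A - 1) := by
    let e : X ≃ G × {a : A // a ≠ 1} :=
      { toFun := fun x => (x.1.1, ⟨x.1.2, fun h => x.2 (by rw [h]; rfl)⟩)
        invFun := fun x => ⟨(x.1, x.2.1), fun h => x.2.2 (Subtype.ext h)⟩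
        left_inv := fun x => rfl
        right_inv := fun x => rfl }
    rw [Nat.card_congr e, Nat.card_prod]
    congr 1
    rw [Nat.card_eq_fintype_card, Fintype.card_subtype_compl, Fintype.card_subtype_eq,
      Nat.card_eq_fintype_card]
  rw [← hX, ← Nat.card_congr (Equiv.sigmaFiberEquiv φ), Nat.card_sigma, Finset.sum_congr rfl fun b _ => hfib b,
    Finset.sum_const, Finset.card_univ, smul_eq_mul, ← Nat.card_coe_set_eq, Nat.card_eq_fintype_card,
    Nat.card_eq_fintype_card]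

end Cfsg.Agent.Transfer.SizesPSL
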