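import Cfsg.Agent.Lib.Transfer.SizesPSL.Quot
import Cfsg.Agent.Lib.Transfer.ClassThree.Main
import Cfsg.Agent.Lib.Block.SpecPSL.Identify
import Cfsg.Agent.Lib.Classical.DicksonTorus

/-!
Groups of order `q(q² - 1)` with centralisers of orders `q`, `q - 1`, `q + 1`, for even `q`.
-/

set_option autoImplicit false
set_option maxHeartbeats 1000000

open scoped Pointwise commutatorElement

universe w x

namespace Cfsg.Agent.Transfer.SizesPSL

open Cfsg Cfsg.Agent Cfsg.Agent.Transfer.ClassDisconnected Cfsg.Agent.Transfer.ClassThree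

variable {G : Type w} [Group G] [Finite G] {q : ℕ}

omit [Finite G] in
theorem exists_abelian_normal [Group.IsSolvable G] [Nontrivial G] :
    ∃ V : Subgroup G, V.Normal ∧ V ≠ ⊥ ∧ ∀ a ∈ V, ∀ b ∈ V, Commute a b := by
  classical
  obtain ⟨m, hm⟩ := (Group.isSolvable_def G).1 inferInstance
  have hex : ∃ n, derivedSeries G n = ⊥ := ⟨m, hm⟩
  have h0 : Nat.find hex ≠ 0 := fun e => by
    have := Nat.find_spec hex
    rw [e, derivedSeries_zero] at this
    exact top_ne_bot this
  obtain ⟨k, hk⟩ := Nat.exists_eq_succ_of_ne_zero h0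
  refine ⟨derivedSeries G k, derivedSeries_normal G k, Nat.find_min hex (by omega), fun a ha b hb => ?_⟩
  have h1 : ⁅a, b⁆ ∈ derivedSeries G (k + 1) := by
    rw [derivedSeries_succ]; exact Subgroup.commutator_mem_commutator ha hb
  rw [← Nat.succ_eq_add_one, ← hk, Nat.find_spec hex, Subgroup.mem_bot, commutatorElement_eq_one_iff_mul_comm] at h1
  exact h1

/-- The quotient of even parameter is a projective special linear group. -/
theorem iso_psl_even (h4 : 4 ≤ q) (hev : 2 ∣ q) (hcard : Nat.card G = q * ((q - 1) * (q + 1)))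
    (hcen : ∀ a : G, a ≠ 1 → Nat.card (cen a) = q ∨ Nat.card (cen a) = q - 1 ∨ Nat.card (cen a) = q + 1)
    {F : Type x} [Field F] [Fintype F] (hF : Fintype.card F = q) :
    Nonempty (G ≃* Matrix.ProjectiveSpecialLinearGroup (Fin 2) F) := by
  classical
  have hbig : q + 1 < Nat.card G := by
    rw [hcard]
    have h3 : 3 ≤ q - 1 := by omega
    calc q + 1 < 4 * (3 * (q + 1)) := by omega
      _ ≤ _ := Nat.mul_le_mul h4 (Nat.mul_le_mul_right _ h3)
  have hle : ∀ a : G, a ≠ 1 → Nat.card (cen a) ≤ q + 1 := fun a ha => by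
    rcases hcen a ha with e | e | e <;> omega
  have hZ : Subgroup.center G = ⊥ := by
    refine (Subgroup.eq_bot_iff_forall _).2 fun z hz => ?_
    by_contra hz1
    have htop : cen z = ⊤ := eq_top_iff.2 fun g _ => mem_cen.2 (Subgroup.mem_center_iff.1 hz g)
    have := hle z hz1
    rw [htop, Subgroup.card_top] at this
    omega
  have hsize : ∀ a : G, a ≠ 1 →
      cix a = (q - 1) * (q + 1) ∨ cix a = q * (q + 1) ∨ cix a = q * (q - 1) := by
    intro a ha
    have h1 := card_mul_cix a
    rw [hcard] at h1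
    rcases hcen a ha with e | e | e <;> rw [e] at h1
    · exact Or.inl (Nat.eq_of_mul_eq_mul_left (by omega) h1)
    · exact Or.inr (Or.inl (Nat.eq_of_mul_eq_mul_left (by omega) (h1.trans (by ring))))
    · exact Or.inr (Or.inr (Nat.eq_of_mul_eq_mul_left (by omega) (h1.trans (by ring))))
  have hns : ¬ Group.IsSolvable G := by
    intro hsol
    haveI := hsol
    haveI : Nontrivial G := Finite.one_lt_card_iff_nontrivial.1 (by omega)
    obtain ⟨V, hVn, hV1, hVc⟩ := exists_abelian_normal (G := G)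
    obtain ⟨⟨a, haV⟩, ha⟩ := Subgroup.ne_bot_iff_exists_ne_one.1 hV1
    have ha1 : a ≠ 1 := fun e => ha (Subtype.ext e)
    have hVle : Nat.card V ≤ q + 1 :=
      le_trans (Nat.le_of_dvd Nat.card_pos (Subgroup.card_dvd_of_le fun b hb => mem_cen.2 (hVc b hb a haV)))
        (hle a ha1)
    have hsub : cl a ⊆ (V : Set G) \ {1} := fun b hb => by
      obtain ⟨c, rfl⟩ := isConj_iff.1 (hb : IsConj a b)
      exact ⟨hVn.conj_mem a haV c, fun e => ha1 (conj_eq_one_iff.1 e)⟩
    have hcix : cix a ≤ q := by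
      rw [← ncard_cl]
      refine (Set.ncard_le_ncard hsub (Set.toFinite _)).trans ?_
      rw [Set.ncard_sdiff_singleton_of_mem (one_mem V), ← Nat.card_coe_set_eq]
      exact Nat.sub_le_iff_le_add.2 hVle
    have h1 := card_mul_cix a
    rw [hcard] at h1
    have h2 : Nat.card (cen a) * cix a ≤ (q + 1) * q := Nat.mul_le_mul (hle a ha1) hcix
    rw [h1] at h2
    have h3 : q * (3 * (q + 1)) ≤ q * ((q - 1) * (q + 1)) :=
      Nat.mul_le_mul_left _ (Nat.mul_le_mul_right _ (by omega))
    nlinarith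
  have hnum : Nat.card {n : ℕ | 1 < n ∧ ∃ x : G, (Subgroup.centralizer ({x} : Set G)).index = n} ≤ 3 := by
    have hsub : {n : ℕ | 1 < n ∧ ∃ x : G, (Subgroup.centralizer ({x} : Set G)).index = n} ⊆
        (({(q - 1) * (q + 1), q * (q + 1), q * (q - 1)} : Finset ℕ) : Set ℕ) := by
      rintro n ⟨hn, a, rfl⟩
      by_cases ha : a = 1
      · subst ha
        have h1 : cix (1 : G) = 1 := cix_eq_one.2 (one_mem (Subgroup.center G))
        exact absurd (h1 ▸ hn : 1 < 1) (lt_irrefl 1)
      · simpa using hsize a ha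
    rw [Nat.card_coe_set_eq]
    refine (Set.ncard_le_ncard hsub (Finset.finite_toSet _)).trans ?_
    rw [Set.ncard_coe_finset]
    exact Finset.card_le_three
  obtain ⟨a, ha, ⟨e⟩⟩ := (classify hZ hnum).resolve_left hns
  haveI := Fintype.ofFinite (GaloisField 2 a)
  have hK : Fintype.card (GaloisField 2 a) = 2 ^ a := by
    rw [← Nat.card_eq_fintype_card, GaloisField.card 2 a ha.ne']
  have hKeven : Even (Fintype.card (GaloisField 2 a)) := by
    rw [hK]; exact (Nat.even_pow).2 ⟨even_two, ha.ne'⟩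
  have hc := Cfsg.Agent.Dickson.card_psl (F := GaloisField 2 a)
  rw [← Nat.card_congr e.toEquiv, hcard] at hc
  rcases Cfsg.Agent.Dickson.del_cases (GaloisField 2 a) with ⟨hd, -⟩ | ⟨-, hodd⟩
  swap
  · exact absurd hKeven (Nat.not_even_iff_odd.2 hodd)
  rw [hd, mul_one] at hc
  have hKq : Fintype.card (GaloisField 2 a) = q := by
    have hK2 := Fintype.one_lt_card (α := GaloisField 2 a)
    rcases lt_trichotomy (Fintype.card (GaloisField 2 a)) q with hlt | heq | hgt
    · exfalso
      have h1 := Nat.mul_lt_mul_of_lt_of_le hlt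
        (Nat.mul_le_mul (show Fintype.card (GaloisField 2 a) - 1 ≤ q - 1 by omega)
          (show Fintype.card (GaloisField 2 a) + 1 ≤ q + 1 by omega))
        (Nat.mul_pos (by omega) (by omega))
      omega
    · exact heq
    · exfalso
      have h1 := Nat.mul_lt_mul_of_lt_of_le hgt
        (Nat.mul_le_mul (show q - 1 ≤ Fintype.card (GaloisField 2 a) - 1 by omega)
          (show q + 1 ≤ Fintype.card (GaloisField 2 a) + 1 by omega))
        (Nat.mul_pos (by omega) (by omega))
      omega
  obtain ⟨e'⟩ := Cfsg.Agent.Block.SpecPSL.psl_congr (K := GaloisField 2 a) (F := F) (hKq.trans hF.symm)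
  exact ⟨e.trans e'⟩

end Cfsg.Agent.Transfer.SizesPSL
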