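import Cfsg.Agent.Lib.Transfer.SizesPSL.Quot
import Cfsg.Agent.Lib.Transfer.SizesPSL.PSLFacts
import Cfsg.Agent.Lib.Invol.TransferControl
import Cfsg.Agent.Lib.Fus.PSLTwo

/-!
The centre splits off: the derived subgroup meets it trivially.
-/

set_option autoImplicit false
set_option maxHeartbeats 1000000

open scoped Pointwise commutatorElement

universe w x

namespace Cfsg.Agent.Transfer.SizesPSL

open Cfsg Cfsg.Agent Cfsg.Agent.Transfer.ClassDisconnected Cfsg.Agent.Transfer.ClassThree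

section Dihedral

theorem r_eq_pow {n : ℕ} [NeZero n] (i : ZMod n) : DihedralGroup.r i = DihedralGroup.r 1 ^ i.val := by
  rw [DihedralGroup.r_one_pow, ZMod.natCast_zmod_val]

/-- A nontrivial central element of a dihedral two-group is a rotation of order two in some presentation. -/
theorem dihedral_pres {k : ℕ} (hk : 1 ≤ k) {x : DihedralGroup (2 ^ k)} (hx : x ≠ 1)
    (hc : ∀ g, Commute g x) : ∃ (r s : DihedralGroup (2 ^ k)) (m : ℕ), r ^ m = x ∧
      (∀ i : ℕ, r ^ i = 1 → 2 * m ∣ i) ∧ s * r * s⁻¹ = r⁻¹ ∧ ∀ g, ∃ i j : ℕ, g = r ^ i * s ^ j := by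
  rcases eq_or_lt_of_le hk with rfl | hk2
  · have key : ∀ x : DihedralGroup (2 ^ 1), x ≠ 1 → x * x = 1 ∧ ∃ s, s * x * s⁻¹ = x⁻¹ ∧
        ∀ g, ∃ i < 2, ∃ j < 2, g = x ^ i * s ^ j := by decide
    obtain ⟨hxx, s, hs, hgen⟩ := key x hx
    refine ⟨x, s, 1, pow_one x, fun i hi => ?_, hs, fun g => ?_⟩
    · have ho : orderOf x = 2 := orderOf_eq_prime (by rw [pow_two, hxx]) hx
      rw [mul_one, ← ho]
      exact orderOf_dvd_of_pow_eq_one hi
    · obtain ⟨i, -, j, -, h⟩ := hgen g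
      exact ⟨i, j, h⟩
  obtain ⟨l, rfl⟩ : ∃ l, k = l + 2 := ⟨k - 2, by omega⟩
  haveI : NeZero (2 ^ (l + 2)) := ⟨pow_ne_zero _ two_ne_zero⟩
  refine ⟨DihedralGroup.r 1, DihedralGroup.sr 0, 2 ^ (l + 1), ?_, fun i hi => ?_, ?_, fun g => ?_⟩
  · rcases x with i | i
    · have h1 := (hc (DihedralGroup.sr 0)).eq
      rw [DihedralGroup.sr_mul_r, DihedralGroup.r_mul_sr, DihedralGroup.sr.injEq, zero_add, zero_sub] at h1
      rw [DihedralGroup.r_one_pow]
      congr 1
      have h2 : ((2 * i.val : ℕ) : ZMod (2 ^ (l + 2))) = 0 := by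
        push_cast
        rw [ZMod.natCast_zmod_val]
        linear_combination h1
      rw [ZMod.natCast_eq_zero_iff] at h2
      have h3 : 2 ^ (l + 1) ∣ i.val :=
        Nat.dvd_of_mul_dvd_mul_left two_pos (by rw [← pow_succ']; exact h2)
      obtain ⟨c, hc'⟩ := h3
      have hlt := i.val_lt
      have hc2 : c < 2 := by
        rw [hc', pow_succ _ (l + 1)] at hlt
        exact Nat.lt_of_mul_lt_mul_left hlt
      interval_cases c
      · exfalso
        refine hx ?_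
        rw [mul_zero, ZMod.val_eq_zero] at hc'
        rw [hc', DihedralGroup.one_def]
      · rw [mul_one] at hc'
        rw [← hc', ZMod.natCast_zmod_val]
    · exfalso
      have h1 := (hc (DihedralGroup.r 1)).eq
      rw [DihedralGroup.sr_mul_r, DihedralGroup.r_mul_sr, DihedralGroup.sr.injEq] at h1
      have h2 : ((2 : ℕ) : ZMod (2 ^ (l + 2))) = 0 := by push_cast; linear_combination -h1
      rw [ZMod.natCast_eq_zero_iff] at h2
      have := Nat.le_of_dvd two_pos h2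
      have : 4 ≤ 2 ^ (l + 2) := by
        calc 4 = 2 ^ 2 := by norm_num
          _ ≤ _ := Nat.pow_le_pow_right two_pos (by omega)
      omega
  · rw [DihedralGroup.r_one_pow, DihedralGroup.one_def, DihedralGroup.r.injEq,
      ZMod.natCast_eq_zero_iff] at hi
    rwa [← pow_succ']
  · rw [DihedralGroup.inv_sr, DihedralGroup.sr_mul_r, DihedralGroup.sr_mul_sr, DihedralGroup.inv_r,
      zero_add, zero_sub]
  · rcases g with i | i
    · exact ⟨i.val, 0, by rw [pow_zero, mul_one, ← r_eq_pow]⟩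
    · exact ⟨(-i).val, 1, by rw [pow_one, ← r_eq_pow, DihedralGroup.r_mul_sr, zero_sub, neg_neg]⟩

end Dihedral

variable {G : Type w} [Group G] [Finite G]

omit [Finite G] in
/-- The derived subgroup of a central extension of a dihedral group meets the centre trivially if a lift of
the central involution commutes with the reflection. -/
theorem commutator_inf_center_of_pres {S : Subgroup G} {ρ σ : G} {m : ℕ} (hσρ : Commute σ (ρ ^ m))
    (hrel : σ * ρ * σ⁻¹ * ρ ∈ Subgroup.center G)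
    (hord : ∀ i : ℕ, ρ ^ i ∈ Subgroup.center G → 2 * m ∣ i)
    (hgen : ∀ g ∈ S, ∃ i j : ℕ, ∃ z ∈ Subgroup.center G, g = ρ ^ i * σ ^ j * z) [Finite G]
    {z : G} (hz : z ∈ ⁅S, S⁆) (hzc : z ∈ Subgroup.center G) : z = 1 := by
  set τ := σ * ρ * σ⁻¹ * ρ with hτ
  set c := σ * ρ * σ⁻¹ * ρ⁻¹ with hc
  have hτc : ∀ g : G, Commute τ g := fun g => (Subgroup.mem_center_iff.1 hrel g).symm
  have e1 : σ * ρ * σ⁻¹ = τ * ρ⁻¹ := by rw [hτ, mul_inv_cancel_right]
  have e2 : c = τ * (ρ ^ 2)⁻¹ := by rw [hc, e1, pow_two, mul_inv_rev, mul_assoc]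
  set C := Subgroup.zpowers c with hC
  set N := Subgroup.normalizer (C : Set G) with hN
  have hρN : ρ ∈ N := by
    have h : Commute ρ c := by
      rw [e2]
      exact (hτc ρ).symm.mul_right ((Commute.refl ρ).pow_right 2).inv_right
    rw [hN, Subgroup.mem_normalizer_iff]
    intro g
    constructor <;> intro hg
    · obtain ⟨i, rfl⟩ := hg
      rw [(h.zpow_right i).eq, mul_inv_cancel_right]
      exact ⟨i, rfl⟩
    · obtain ⟨i, hi⟩ := hg
      refine ⟨i, ?_⟩
      have h1 : ρ * c ^ i * ρ⁻¹ = ρ * g * ρ⁻¹ := by rw [(h.zpow_right i).eq, mul_inv_cancel_right]; exact hi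
      exact mul_left_cancel (mul_right_cancel h1)
  have hσinv : σ * c * σ⁻¹ = c⁻¹ := by
    have h1 : σ * c * σ⁻¹ = (σ * τ * σ⁻¹) * ((σ * ρ * σ⁻¹) ^ 2)⁻¹ := by
      rw [e2, conj_pow]; group
    have h2 : σ * τ * σ⁻¹ = τ := by rw [← (hτc σ).eq, mul_inv_cancel_right]
    rw [h1, h2, e1, e2, (hτc ρ⁻¹).mul_pow, mul_inv_rev, mul_inv_rev, inv_pow, inv_inv, ← mul_assoc,
      (hτc (ρ ^ 2)).eq]
    group
  have hσN : σ ∈ N := by
    rw [hN, Subgroup.mem_normalizer_iff]
    intro g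
    constructor <;> intro hg
    · obtain ⟨i, rfl⟩ := hg
      refine ⟨-i, ?_⟩
      show c ^ (-i) = σ * c ^ i * σ⁻¹
      rw [← conj_zpow, hσinv, inv_zpow, zpow_neg]
    · obtain ⟨i, hi⟩ := hg
      refine ⟨-i, ?_⟩
      have h1 : σ * c ^ (-i) * σ⁻¹ = σ * g * σ⁻¹ := by
        rw [← conj_zpow, hσinv, inv_zpow, zpow_neg, inv_inv]
        exact hi
      exact mul_left_cancel (mul_right_cancel h1)
  have hzN : ∀ g ∈ Subgroup.center G, g ∈ N := fun g hg => by
    rw [hN, Subgroup.mem_normalizer_iff]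
    intro e
    rw [← Subgroup.mem_center_iff.1 hg e, mul_inv_cancel_right]
  haveI hCn : (C.subgroupOf N).Normal := Subgroup.normal_subgroupOf_of_le_normalizer le_rfl
  let a : N ⧸ C.subgroupOf N := QuotientGroup.mk' _ ⟨ρ, hρN⟩
  let b : N ⧸ C.subgroupOf N := QuotientGroup.mk' _ ⟨σ, hσN⟩
  have hab : Commute b a := by
    refine mul_inv_eq_iff_eq_mul.1 (mul_inv_eq_one.1 ?_)
    rw [← map_mul, ← map_inv, ← map_mul, ← map_inv, ← map_mul]
    refine (QuotientGroup.eq_one_iff _).2 (Subgroup.mem_subgroupOf.2 ?_)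
    exact Subgroup.mem_zpowers c
  have hcomm : ∀ g ∈ S, ∀ h ∈ S, ⁅g, h⁆ ∈ C := by
    intro g hg h hh
    obtain ⟨i, j, z₁, hz₁, rfl⟩ := hgen g hg
    obtain ⟨i', j', z₂, hz₂, rfl⟩ := hgen h hh
    have hw : ∀ (z₀ : G) (h0 : z₀ ∈ Subgroup.center G) (e : N ⧸ C.subgroupOf N),
        Commute (QuotientGroup.mk' _ (⟨z₀, hzN z₀ h0⟩ : N)) e := by
      intro z₀ h0 e
      obtain ⟨e', rfl⟩ := QuotientGroup.mk'_surjective _ e
      exact Commute.map (Subtype.ext (Subgroup.mem_center_iff.1 h0 (e' : G)).symm) _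
    let g' : N := ⟨ρ, hρN⟩ ^ i * ⟨σ, hσN⟩ ^ j * ⟨z₁, hzN z₁ hz₁⟩
    let h' : N := ⟨ρ, hρN⟩ ^ i' * ⟨σ, hσN⟩ ^ j' * ⟨z₂, hzN z₂ hz₂⟩
    have h1 : QuotientGroup.mk' (C.subgroupOf N) ⁅g', h'⁆ = 1 := by
      rw [map_commutatorElement, commutatorElement_eq_one_iff_commute]
      simp only [g', h', map_mul, map_pow]
      refine (((?_ : Commute (a ^ i * b ^ j) (a ^ i' * b ^ j'))).mul_right ((hw z₂ hz₂ _).symm)).mul_left
        (hw z₁ hz₁ _)
      exact (((Commute.refl a).pow_pow i i').mul_right (hab.symm.pow_pow i j')).mul_left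
        ((hab.pow_pow j i').mul_right ((Commute.refl b).pow_pow j j'))
    exact Subgroup.mem_subgroupOf.1 ((QuotientGroup.eq_one_iff _).1 h1)
  obtain ⟨i, hi⟩ := mem_powers_iff_mem_zpowers.2 (Subgroup.commutator_le.2 hcomm hz)
  simp only at hi
  subst hi
  have h2i : 2 * m ∣ 2 * i := hord _ (by
    have h : c ^ i = τ ^ i * (ρ ^ (2 * i))⁻¹ := by
      rw [e2, (hτc _).mul_pow, inv_pow, ← pow_mul]
    have h3 : ρ ^ (2 * i) = (c ^ i)⁻¹ * τ ^ i := by
      rw [h, mul_inv_rev, inv_inv, inv_mul_cancel_right]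
    rw [h3]
    exact mul_mem (inv_mem hzc) (pow_mem hrel i))
  obtain ⟨l, rfl⟩ := Nat.dvd_of_mul_dvd_mul_left two_pos h2i
  have hcm : c ^ m = 1 := by
    have h1 : σ * ρ ^ m * σ⁻¹ = ρ ^ m := by rw [hσρ.eq, mul_inv_cancel_right]
    rw [← conj_pow, e1, (hτc _).mul_pow, inv_pow] at h1
    rw [e2, (hτc _).mul_pow, inv_pow, ← pow_mul, two_mul, pow_add, mul_inv_rev, ← mul_assoc, h1,
      mul_inv_cancel]
  rw [pow_mul, hcm, one_pow]

namespace Sizes

variable {q u v : ℕ}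

/-- Sylow subgroups are abelian as in the quotient, unless they are two-groups and `v` is even. -/
theorem sylow_comm_lift (h : Sizes G q u v) {r : ℕ} [hr : Fact r.Prime] (hr2 : r ≠ 2 ∨ ¬ 2 ∣ v)
    (hQ : ∀ T : Sylow r (G ⧸ Subgroup.center G), IsMulCommutative (T : Subgroup (G ⧸ Subgroup.center G)))
    (S : Sylow r G) {a b : G} (ha : a ∈ (S : Subgroup G)) (hb : b ∈ (S : Subgroup G)) : Commute b a := by
  set π := QuotientGroup.mk' (Subgroup.center G)
  by_cases haZ : a ∈ Subgroup.center G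
  · exact Subgroup.mem_center_iff.1 haZ b
  have hs : Function.Surjective π := QuotientGroup.mk'_surjective _
  have hab : Commute (π b) (π a) :=
    congrArg Subtype.val ((hQ (S.mapSurjective hs)).is_comm.comm ⟨π b, b, hb, rfl⟩ ⟨π a, a, ha, rfl⟩)
  refine commute_of_coprime ?_ ?_
  · rw [← QuotientGroup.eq_one_iff]
    show π (b * a * b⁻¹ * a⁻¹) = 1
    rw [map_mul, map_mul, map_mul, map_inv, map_inv, hab.eq, mul_inv_cancel_right, mul_inv_cancel]
  obtain ⟨i, hi⟩ := exists_pow_of_mem S.isPGroup' ha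
  obtain ⟨l, -, hl⟩ := (Nat.dvd_prime_pow hr.out).1 (hi ▸ orderOf_map_dvd π a)
  rw [hl]
  refine Nat.Coprime.pow_left _ ((hr.out.coprime_iff_not_dvd).2 fun hd => ?_)
  have hl0 : l ≠ 0 := by
    rintro rfl
    exact haZ ((QuotientGroup.eq_one_iff a).1 (orderOf_eq_one_iff.1 (hl.trans (pow_zero r))))
  have hrb : r ∣ cb a := (hl ▸ dvd_pow_self r hl0 : r ∣ orderOf (π a)).trans (orderOf_quot_dvd a)
  have no : ∀ {m n : ℕ}, m.Coprime n → r ∣ m → r ∣ n → False := fun hc h1 h2 =>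
    hr.out.ne_one (Nat.eq_one_of_dvd_coprimes hc h1 h2)
  rcases h.cb_cases haZ with ⟨e1, e2⟩ | ⟨e1, e2⟩ | ⟨e1, e2⟩ | ⟨e1, e2, h2⟩
  · exact no (Nat.Coprime.mul_right h.cqu h.cqv) (e1 ▸ hrb) (e2 ▸ hd)
  · exact no (Nat.Coprime.mul_right h.cqu.symm h.cuv) (e1 ▸ hrb) (e2 ▸ hd)
  · exact no (Nat.Coprime.mul_right h.cqv.symm h.cuv.symm) (e1 ▸ hrb) (e2 ▸ hd)
  · have hrv : r ∣ v := e1 ▸ Dvd.dvd.mul_left hrb 2
    rcases hr.out.dvd_mul.1 (e2 ▸ hd) with hd | hd
    · exact (hr2.resolve_right (not_not.2 h2)) ((Nat.prime_dvd_prime_iff_eq hr.out Nat.prime_two).1 hd)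
    · exact no (Nat.Coprime.mul_right h.cqv.symm h.cuv.symm) hrv hd

/-- The two-part of the derived subgroup meets the centre trivially in odd characteristic. -/
theorem two_inter (h : Sizes G q u v) (hq : ¬ 2 ∣ q) (hu : ¬ 2 ∣ u) (h4 : 4 ∣ v) {F : Type x} [Field F]
    [Fintype F] (hF : ¬ 2 ∣ Fintype.card F)
    (e : G ⧸ Subgroup.center G ≃* Matrix.ProjectiveSpecialLinearGroup (Fin 2) F) (S : Sylow 2 G) {z : G}
    (hz : z ∈ ⁅(S : Subgroup G), (S : Subgroup G)⁆) (hzc : z ∈ Subgroup.center G) : z = 1 := by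
  classical
  haveI : Fact (Nat.Prime 2) := ⟨Nat.prime_two⟩
  set π := QuotientGroup.mk' (Subgroup.center G)
  have hs : Function.Surjective π := QuotientGroup.mk'_surjective _
  set T := S.mapSurjective hs with hT
  obtain ⟨k, ⟨d0⟩, -⟩ := Fus.PSLTwo.exists_sylow_dihedral (Nat.mod_two_ne_zero.1 fun hc =>
    hF (Nat.dvd_of_mod_eq_zero hc)) (T.mapSurjective (f := e.toMonoidHom) e.surjective)
  let d : (T : Subgroup (G ⧸ Subgroup.center G)) ≃* DihedralGroup (2 ^ k) :=
    (Subgroup.equivMapOfInjective (T : Subgroup (G ⧸ Subgroup.center G)) e.toMonoidHom e.injective).trans d0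
  have hk : 1 ≤ k := by
    by_contra hk0
    have hk' : k = 0 := by omega
    have hcard : Nat.card (T : Subgroup (G ⧸ Subgroup.center G)) = 2 := by
      rw [Nat.card_congr d.toEquiv, DihedralGroup.nat_card, hk']; norm_num
    obtain ⟨c, hc⟩ := h4
    have h1 := (T : Subgroup (G ⧸ Subgroup.center G)).card_mul_index
    rw [hcard, h.quot_card, hc] at h1
    refine T.not_dvd_index ⟨q * (u * c), ?_⟩
    refine Nat.eq_of_mul_eq_mul_left two_pos ?_
    linarith
  obtain ⟨g, hg⟩ := h.sC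
  have hqu : q * u ≠ 1 := fun e1 => by
    have := Nat.eq_one_of_mul_eq_one_right e1; have := h.q1; omega
  have hgZ : g ∉ Subgroup.center G := fun hc => hqu (by rw [← hg, cix_eq_one.2 hc])
  obtain ⟨j, s, l, hsp, hl, hjZ⟩ := exists_primary_noncentral hgZ
  have hdvd : cix (g ^ j) ∣ q * u := hg ▸ cix_pow_dvd g j
  have h2x : ¬ 2 ∣ cix (g ^ j) := fun hd => (Nat.prime_two.dvd_mul.1 (hd.trans hdvd)).elim hq hu
  obtain ⟨P, hP⟩ := exists_sylow_le_centralizer h2x
  obtain ⟨w, hw⟩ := MulAction.exists_smul_eq G P S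
  set x := w * g ^ j * w⁻¹ with hx
  have hSx : (S : Subgroup G) ≤ cen x := by
    intro a ha
    rw [← hw, Sylow.coe_subgroup_smul, Subgroup.mem_pointwise_smul_iff_inv_smul_mem, MulAut.smul_def,
      ← map_inv, MulAut.conj_apply, inv_inv] at ha
    have h1 := (conj_mem_cen (g := w)).2 (hP ha)
    rwa [show w * (w⁻¹ * a * w) * w⁻¹ = a by group] at h1
  have hxZ : x ∉ Subgroup.center G := fun hxc => hjZ (by
    have h1 := cix_eq_one.2 hxc
    rw [hx, cix_conj] at h1
    exact cix_eq_one.1 h1)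
  have hx1 : π x ≠ 1 := fun e1 => hxZ ((QuotientGroup.eq_one_iff x).1 e1)
  have hxo : orderOf x = s ^ l := by rw [hx, orderOf_conj', hl]
  have hcomm : ∀ t ∈ (T : Subgroup (G ⧸ Subgroup.center G)), Commute t (π x) := by
    rintro _ ⟨a, ha, rfl⟩
    exact Commute.map (mem_cen.1 (hSx ha)) π
  obtain ⟨m0, rfl⟩ : ∃ m0, k = m0 + 1 := ⟨k - 1, by omega⟩
  by_cases hs2 : s = 2
  swap
  · exfalso
    set A := d.symm (DihedralGroup.r ((2 ^ m0 : ℕ) : ZMod (2 ^ (m0 + 1)))) with hA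
    set B := d.symm (DihedralGroup.sr 0) with hB
    have hA' : orderOf (DihedralGroup.r ((2 ^ m0 : ℕ) : ZMod (2 ^ (m0 + 1)))) = 2 := by
      refine orderOf_eq_prime ?_ fun e1 => ?_
      · rw [← DihedralGroup.r_one_pow, ← pow_mul, ← pow_succ, DihedralGroup.r_one_pow_n]
      · rw [DihedralGroup.one_def, DihedralGroup.r.injEq, ZMod.natCast_eq_zero_iff] at e1
        have := Nat.le_of_dvd (by positivity) e1
        have : 2 ^ m0 < 2 ^ (m0 + 1) := Nat.pow_lt_pow_right one_lt_two (by omega)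
        omega
    have hAB : Commute A B := by
      rw [hA, hB]
      refine Commute.map ?_ d.symm
      show _ = _
      rw [DihedralGroup.r_mul_sr, DihedralGroup.sr_mul_r, DihedralGroup.sr.injEq]
      have h0 : ((2 ^ (m0 + 1) : ℕ) : ZMod (2 ^ (m0 + 1))) = 0 := ZMod.natCast_self _
      push_cast at h0 ⊢
      linear_combination -h0
    have hodd : Odd (orderOf (π x)) :=
      Odd.of_dvd_nat (hsp.odd_of_ne_two hs2).pow (hxo ▸ orderOf_map_dvd π x)
    refine psl_no_commute hF (y := e (π x)) (a := e (A : G ⧸ Subgroup.center G))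
      (b := e (B : G ⧸ Subgroup.center G)) (fun e1 => hx1 (e.injective (e1.trans (map_one e).symm)))
      (by rwa [e.orderOf_eq]) (by rw [e.orderOf_eq, Subgroup.orderOf_coe, hA, d.symm.orderOf_eq, hA'])
      (by rw [e.orderOf_eq, Subgroup.orderOf_coe, hB, d.symm.orderOf_eq, DihedralGroup.orderOf_sr]) ?_
      ((hAB.map (Subgroup.subtype _)).map e) ((hcomm _ A.2).map e) ((hcomm _ B.2).map e)
    intro e1
    have h1 := d.symm.injective (Subtype.ext (e.injective e1))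
    exact absurd h1 (by simp)
  have hxS : x ∈ (S : Subgroup G) := mem_sylow_of_le_cen S hSx (hs2 ▸ hxo)
  obtain ⟨r, s', m, hrm, hord, hrel, hgen⟩ := dihedral_pres (x := d ⟨π x, x, hxS, rfl⟩) hk
    (fun e1 => hx1 (congrArg Subtype.val (d.injective (e1.trans (map_one d).symm))))
    (fun t => by
      obtain ⟨t', rfl⟩ := d.surjective t
      exact Commute.map (Subtype.ext (hcomm _ t'.2).eq) d)
  obtain ⟨ρ, hρ, hρe⟩ := (d.symm r).2
  obtain ⟨σ, hσ, hσe⟩ := (d.symm s').2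
  have hval : ∀ (i j : ℕ), π (ρ ^ i * σ ^ j) = ((d.symm (r ^ i * s' ^ j) : _) : G ⧸ Subgroup.center G) := by
    intro i j
    rw [map_mul, map_pow, map_pow, map_mul, map_pow, map_pow, Subgroup.coe_mul, Subgroup.coe_pow,
      Subgroup.coe_pow]
    exact congrArg₂ (· * ·) (congrArg (· ^ i) hρe) (congrArg (· ^ j) hσe)
  refine commutator_inf_center_of_pres (S := (S : Subgroup G)) (ρ := ρ) (σ := σ) (m := m) ?_ ?_ ?_ ?_ hz hzc
  · have hρm : π (ρ ^ m) = π x := by
      have h1 := hval m 0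
      rw [pow_zero, mul_one, pow_zero, mul_one, hrm, MulEquiv.symm_apply_apply] at h1
      exact h1
    have h2 : x⁻¹ * ρ ^ m ∈ Subgroup.center G := QuotientGroup.eq.1 hρm.symm
    have h3 : Commute σ (x * (x⁻¹ * ρ ^ m)) :=
      (mem_cen.1 (hSx hσ)).mul_right (Subgroup.mem_center_iff.1 h2 σ)
    rwa [mul_inv_cancel_left] at h3
  · rw [← QuotientGroup.eq_one_iff]
    show π (σ * ρ * σ⁻¹ * ρ) = 1
    rw [map_mul, map_mul, map_mul, map_inv, show π ρ = _ from hρe, show π σ = _ from hσe]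
    have h1 : d.symm s' * d.symm r * (d.symm s')⁻¹ * d.symm r = 1 := by
      rw [← map_inv, ← map_mul, ← map_mul, ← map_mul, hrel, inv_mul_cancel, map_one]
    exact congrArg Subtype.val h1
  · intro i hi
    refine hord i (d.symm.injective (Subtype.ext ?_))
    have h1 := hval i 0
    rw [pow_zero, mul_one, pow_zero, mul_one] at h1
    rw [← h1, map_one]
    exact (QuotientGroup.eq_one_iff _).2 hi
  · intro a ha
    obtain ⟨i, j, hij⟩ := hgen (d ⟨π a, a, ha, rfl⟩)
    refine ⟨i, j, (ρ ^ i * σ ^ j)⁻¹ * a, QuotientGroup.eq.1 ?_, (mul_inv_cancel_left _ _).symm⟩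
    have h1 := hval i j
    rw [← hij, MulEquiv.symm_apply_apply] at h1
    exact h1

/-- The conclusion: the derived subgroup is a complement of the centre. -/
theorem exists_complement (h : Sizes G q u v) (hperf : commutator (G ⧸ Subgroup.center G) = ⊤)
    (hr : ∀ (r : ℕ) [Fact r.Prime] (S : Sylow r G) (z : G), z ∈ ⁅(S : Subgroup G), (S : Subgroup G)⁆ →
      z ∈ Subgroup.center G → z = 1) :
    ∃ N A : Subgroup G, N.Normal ∧ A ≤ Subgroup.center G ∧ N ⊓ A = ⊥ ∧ N ⊔ A = ⊤ ∧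
      Nonempty (N ≃* G ⧸ Subgroup.center G) := by
  have _ := h
  set π := QuotientGroup.mk' (Subgroup.center G)
  have hs : Function.Surjective π := QuotientGroup.mk'_surjective _
  have hinf : commutator G ⊓ Subgroup.center G = ⊥ := by
    rw [Subgroup.eq_bot_iff_forall]
    rintro z ⟨hzG, hzc⟩
    by_contra hz1
    obtain ⟨s, j, hsp, hj, -⟩ := exists_prime_order_pow hz1
    haveI : Fact s.Prime := ⟨hsp⟩
    obtain ⟨S⟩ : Nonempty (Sylow s G) := inferInstance
    have hc : z ^ j ∈ Subgroup.center G := pow_mem hzc j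
    have hzS : z ^ j ∈ (S : Subgroup G) := mem_sylow_of_le_cen S
      (fun a _ => mem_cen.2 (Subgroup.mem_center_iff.1 hc a)) (i := 1) (by rw [hj, pow_one])
    exact ne_one_of_prime hsp hj
      (hr s S _ (Invol.mem_commutator_of_central S hzS hc (pow_mem hzG j)) hc)
  have hmap : (commutator G).map π = ⊤ := by
    rw [commutator_def, Subgroup.map_commutator, Subgroup.map_top_of_surjective π hs, ← commutator_def, hperf]
  refine ⟨commutator G, Subgroup.center G, inferInstance, le_rfl, hinf, ?_, ?_⟩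
  · have h1 := Subgroup.comap_map_eq π (commutator G)
    rw [hmap, Subgroup.comap_top, QuotientGroup.ker_mk'] at h1
    exact h1.symm
  · refine ⟨MulEquiv.ofBijective (π.comp (commutator G).subtype) ⟨?_, ?_⟩⟩
    · rw [← MonoidHom.ker_eq_bot_iff, Subgroup.eq_bot_iff_forall]
      rintro ⟨a, ha⟩ hk
      refine Subtype.ext (Subgroup.mem_bot.1 (hinf ▸ (⟨ha, ?_⟩ : a ∈ commutator G ⊓ Subgroup.center G)))
      exact (QuotientGroup.eq_one_iff a).1 hk
    · intro b
      obtain ⟨a, ha, hab⟩ := (hmap.symm ▸ Subgroup.mem_top b : b ∈ (commutator G).map π)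
      exact ⟨⟨a, ha⟩, hab⟩

end Sizes

end Cfsg.Agent.Transfer.SizesPSL
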