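import Cfsg.Agent.Lib.Transfer.SizesPSL.Zassenhaus
import Cfsg.Agent.Lib.Transfer.SizesPSL.EvenCase
import Cfsg.Agent.Lib.Transfer.SizesPSL.Split
import Cfsg.Agent.S2507
import Cfsg.Agent.S2508

/-!
Groups with the class sizes of `PSL(2, q)`.
-/

set_option autoImplicit false
set_option maxHeartbeats 1000000

open scoped Pointwise

universe w x

namespace Cfsg.Agent.Transfer.SizesPSL

open Cfsg Cfsg.Agent Cfsg.Agent.Transfer.ClassDisconnected Cfsg.Agent.Transfer.ClassThree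

variable {G : Type w} [Group G] [Finite G] {F : Type x} [Field F] [Fintype F]

local notation "PSL₂" => Matrix.ProjectiveSpecialLinearGroup (Fin 2) F

theorem sizes_of_set {q u v : ℕ} {T : Set ℕ} (hT : Set.range (fun g : G => cix g) = T) (hq : 1 < q)
    (hu : 1 < u) (hv : 2 < v) (cqu : q.Coprime u) (cqv : q.Coprime v) (cuv : u.Coprime v)
    (hA : u * v ∈ T) (hB : q * v ∈ T) (hC : q * u ∈ T)
    (hall : ∀ n ∈ T, n = 1 ∨ n = u * v ∨ n = q * v ∨ n = q * u ∨ (n = 2 * (q * u) ∧ 2 ∣ v)) :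
    Sizes G q u v := by
  rw [← hT] at hA hB hC hall
  exact ⟨hq, hu, hv, cqu, cqv, cuv, hA, hB, hC, fun g hg =>
    (hall _ ⟨g, rfl⟩).resolve_left fun e => hg (cix_eq_one.1 e)⟩

theorem odd_sizes (hodd : ¬ 2 ∣ Fintype.card F) (h7 : 7 ≤ Fintype.card F)
    (h : Set.range (fun g : G => (Subgroup.centralizer ({g} : Set G)).index) =
      Set.range (fun g : PSL₂ => (Subgroup.centralizer ({g} : Set PSL₂)).index)) :
    ∃ p f u v : ℕ, Sizes G (Fintype.card F) u v ∧ Hyp (G ⧸ Subgroup.center G) p f (Fintype.card F) u v := by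
  obtain ⟨p, -, ⟨n, _⟩, hp, hn⟩ := FiniteField.card' F
  obtain ⟨h1, h3⟩ := Cfsg.Agent.S2508.result hodd h7
  set q := Fintype.card F with hq
  have fin : ∀ {u v : ℕ}, ¬ 2 ∣ u → ((q + 1 = 2 * u ∧ v + 1 = q) ∨ (q = 2 * u + 1 ∧ v = q + 1)) →
      Sizes G q u v → Hyp (G ⧸ Subgroup.center G) p n q u v := fun hu hrel hs =>
    ⟨hp, hn, hrel, h7, hu, hs.quot_card, fun a ha => hs.quot_cen a ha⟩
  have hcop : ∀ {u v : ℕ}, ¬ 2 ∣ u → ((q + 1 = 2 * u ∧ v + 1 = q) ∨ (q = 2 * u + 1 ∧ v = q + 1)) →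
      q.Coprime u ∧ q.Coprime v ∧ u.Coprime v := by
    intro u v hu hrel
    refine ⟨?_, ?_, ?_⟩
    · refine Nat.coprime_of_dvd fun r hr ha hb => hr.ne_one (Nat.dvd_one.1 ?_)
      have h3 : r ∣ 2 * u := Dvd.dvd.mul_left hb 2
      rcases hrel with ⟨h, -⟩ | ⟨h, -⟩
      · exact (Nat.dvd_add_right ha).1 (h ▸ h3)
      · exact (Nat.dvd_add_right h3).1 (h ▸ ha)
    · refine Nat.coprime_of_dvd fun r hr ha hb => hr.ne_one (Nat.dvd_one.1 ?_)
      rcases hrel with ⟨-, h⟩ | ⟨-, h⟩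
      · exact (Nat.dvd_add_right hb).1 (h ▸ ha)
      · exact (Nat.dvd_add_right ha).1 (h ▸ hb)
    · refine Nat.coprime_of_dvd fun r hr ha hb => hu ?_
      have h3 : r ∣ 2 * u := Dvd.dvd.mul_left ha 2
      have h4 : r ∣ 2 := by
        rcases hrel with ⟨h, h'⟩ | ⟨h, h'⟩
        · exact (Nat.dvd_add_right hb).1 (show r ∣ v + 2 by rw [show v + 2 = 2 * u by omega]; exact h3)
        · exact (Nat.dvd_add_right h3).1 (show r ∣ 2 * u + 2 by rw [show 2 * u + 2 = v by omega]; exact hb)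
      exact (Nat.prime_dvd_prime_iff_eq hr Nat.prime_two).1 h4 ▸ ha
  rcases (show q % 4 = 1 ∨ q % 4 = 3 by omega) with hmod | hmod
  · obtain ⟨m, hm⟩ : ∃ m, q = 4 * m + 1 := ⟨q / 4, by omega⟩
    have hu : ¬ 2 ∣ 2 * m + 1 := by omega
    have hrel : (q + 1 = 2 * (2 * m + 1) ∧ 4 * m + 1 = q) ∨ (q = 2 * (2 * m + 1) + 1 ∧ 4 * m = q + 1) :=
      Or.inl (by omega)
    obtain ⟨c1, c2, c3⟩ := hcop (v := 4 * m) hu hrel
    have eA : (q ^ 2 - 1) / 2 = (2 * m + 1) * (4 * m) := by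
      rw [show q ^ 2 = 2 * ((2 * m + 1) * (4 * m)) + 1 by rw [hm]; ring, Nat.add_sub_cancel,
        Nat.mul_div_cancel_left _ two_pos]
    have eC : q * (q + 1) / 2 = q * (2 * m + 1) := by
      rw [show q * (q + 1) = 2 * (q * (2 * m + 1)) by rw [hm]; ring, Nat.mul_div_cancel_left _ two_pos]
    have eB : q * (q - 1) = q * (4 * m) := by rw [hm, Nat.add_sub_cancel]
    have eD : q * (q + 1) = 2 * (q * (2 * m + 1)) := by rw [hm]; ring
    have hs : Sizes G q (2 * m + 1) (4 * m) := by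
      refine sizes_of_set (h.trans (h1 hmod)) (by omega) (by omega) (by omega) c1 c2 c3 ?_ ?_ ?_ ?_
      · rw [← eA]; simp
      · rw [← eB]; simp
      · rw [← eC]; simp
      · intro n hn
        simp only [Set.mem_insert_iff, Set.mem_singleton_iff] at hn
        rcases hn with e | e | e | e | e
        · exact Or.inl e
        · exact Or.inr (Or.inl (e.trans eA))
        · exact Or.inr (Or.inr (Or.inr (Or.inl (e.trans eC))))
        · exact Or.inr (Or.inr (Or.inl (e.trans eB)))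
        · exact Or.inr (Or.inr (Or.inr (Or.inr ⟨e.trans eD, by omega⟩)))
    exact ⟨p, n, _, _, hs, fin hu hrel hs⟩
  · obtain ⟨m, hm⟩ : ∃ m, q = 4 * m + 3 := ⟨q / 4, by omega⟩
    have hu : ¬ 2 ∣ 2 * m + 1 := by omega
    have hrel : (q + 1 = 2 * (2 * m + 1) ∧ 4 * m + 4 + 1 = q) ∨ (q = 2 * (2 * m + 1) + 1 ∧ 4 * m + 4 = q + 1) :=
      Or.inr (by omega)
    obtain ⟨c1, c2, c3⟩ := hcop (v := 4 * m + 4) hu hrel
    have eA : (q ^ 2 - 1) / 2 = (2 * m + 1) * (4 * m + 4) := by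
      rw [show q ^ 2 = 2 * ((2 * m + 1) * (4 * m + 4)) + 1 by rw [hm]; ring, Nat.add_sub_cancel,
        Nat.mul_div_cancel_left _ two_pos]
    have eD : q * (q - 1) = 2 * (q * (2 * m + 1)) := by
      rw [hm, show 4 * m + 3 - 1 = 2 * (2 * m + 1) by omega]; ring
    have eC : q * (q - 1) / 2 = q * (2 * m + 1) := by
      rw [eD, Nat.mul_div_cancel_left _ two_pos]
    have eB : q * (q + 1) = q * (4 * m + 4) := by rw [hm]
    have hs : Sizes G q (2 * m + 1) (4 * m + 4) := by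
      refine sizes_of_set (h.trans (h3 hmod)) (by omega) (by omega) (by omega) c1 c2 c3 ?_ ?_ ?_ ?_
      · rw [← eA]; simp
      · rw [← eB]; simp
      · rw [← eC]; simp
      · intro n hn
        simp only [Set.mem_insert_iff, Set.mem_singleton_iff] at hn
        rcases hn with e | e | e | e | e
        · exact Or.inl e
        · exact Or.inr (Or.inl (e.trans eA))
        · exact Or.inr (Or.inr (Or.inr (Or.inl (e.trans eC))))
        · exact Or.inr (Or.inr (Or.inl (e.trans eB)))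
        · exact Or.inr (Or.inr (Or.inr (Or.inr ⟨e.trans eD, by omega⟩)))
    exact ⟨p, n, _, _, hs, fin hu hrel hs⟩

theorem even_sizes (h2 : 2 ∣ Fintype.card F) (h4 : 4 ≤ Fintype.card F)
    (h : Set.range (fun g : G => (Subgroup.centralizer ({g} : Set G)).index) =
      Set.range (fun g : PSL₂ => (Subgroup.centralizer ({g} : Set PSL₂)).index)) :
    Sizes G (Fintype.card F) (Fintype.card F - 1) (Fintype.card F + 1) := by
  have hh := Cfsg.Agent.S2507.result h2 h4
  set q := Fintype.card F with hq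
  obtain ⟨c, hc⟩ : ∃ c, q = c + 1 := ⟨q - 1, by omega⟩
  have hc1 : q - 1 = c := by omega
  have eA : q ^ 2 - 1 = (q - 1) * (q + 1) := by
    rw [hc1, show q ^ 2 = c * (q + 1) + 1 by rw [hc]; ring, Nat.add_sub_cancel]
  refine sizes_of_set (h.trans hh) (by omega) (by omega) (by omega) ?_ ?_ ?_ ?_ ?_ ?_ ?_
  · refine Nat.coprime_of_dvd fun r hr ha hb => hr.ne_one (Nat.dvd_one.1 ?_)
    exact (Nat.dvd_add_right hb).1 (show r ∣ q - 1 + 1 by rwa [show q - 1 + 1 = q by omega])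
  · exact Nat.coprime_of_dvd fun r hr ha hb => hr.ne_one (Nat.dvd_one.1 ((Nat.dvd_add_right ha).1 hb))
  · refine Nat.coprime_of_dvd fun r hr ha hb => ?_
    have h2' : r ∣ 2 := (Nat.dvd_add_right ha).1 (show r ∣ q - 1 + 2 by rwa [show q - 1 + 2 = q + 1 by omega])
    have := (Nat.prime_dvd_prime_iff_eq hr Nat.prime_two).1 h2'
    subst this
    omega
  · rw [← eA]; simp
  · simp
  · simp
  · intro n hn
    simp only [Set.mem_insert_iff, Set.mem_singleton_iff] at hn
    rcases hn with e | e | e | e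
    · exact Or.inl e
    · exact Or.inr (Or.inr (Or.inr (Or.inl e)))
    · exact Or.inr (Or.inl (e.trans eA))
    · exact Or.inr (Or.inr (Or.inl e))

/-- Odd parameter: the quotient by the centre. -/
theorem quot_iso_odd (hodd : ¬ 2 ∣ Fintype.card F) (h7 : 7 ≤ Fintype.card F)
    (h : Set.range (fun g : G => (Subgroup.centralizer ({g} : Set G)).index) =
      Set.range (fun g : PSL₂ => (Subgroup.centralizer ({g} : Set PSL₂)).index)) :
    Nonempty (G ⧸ Subgroup.center G ≃* PSL₂) := by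
  obtain ⟨p, f, u, v, -, d⟩ := odd_sizes hodd h7 h
  exact d.iso_psl rfl

omit [Finite G] in
theorem commutator_quot_top (h4 : 4 ≤ Fintype.card F) (e : G ⧸ Subgroup.center G ≃* PSL₂) :
    commutator (G ⧸ Subgroup.center G) = ⊤ := by
  rw [commutator_def, ← Subgroup.map_top_of_surjective e.symm.toMonoidHom e.symm.surjective,
    ← Subgroup.map_commutator, ← commutator_def, psl_commutator_eq_top h4,
    Subgroup.map_top_of_surjective e.symm.toMonoidHom e.symm.surjective]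

theorem inter_of_comm {S : Subgroup G} (hS : ∀ a ∈ S, ∀ b ∈ S, Commute b a) {z : G} (hz : z ∈ ⁅S, S⁆) :
    z = 1 := by
  have h : ⁅S, S⁆ = ⊥ := Subgroup.commutator_eq_bot_iff_le_centralizer.2 fun a ha =>
    Subgroup.mem_centralizer_iff.2 fun b hb => (hS a ha b hb).eq
  rw [h] at hz
  exact Subgroup.mem_bot.1 hz

/-- Both parities: the group is the product of `PSL(2, q)` and its centre. -/
theorem product (hq : (2 ∣ Fintype.card F ∧ 2 < Fintype.card F) ∨ (¬ 2 ∣ Fintype.card F ∧ 7 ≤ Fintype.card F))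
    (h : Set.range (fun g : G => (Subgroup.centralizer ({g} : Set G)).index) =
      Set.range (fun g : PSL₂ => (Subgroup.centralizer ({g} : Set PSL₂)).index)) :
    ∃ N A : Subgroup G, N.Normal ∧ A ≤ Subgroup.center G ∧ N ⊓ A = ⊥ ∧ N ⊔ A = ⊤ ∧
      Nonempty (N ≃* PSL₂) := by
  have h4 : 4 ≤ Fintype.card F := by omega
  have hsyl : ∀ {r : ℕ} [Fact r.Prime], (r ≠ 2 ∨ 2 ∣ Fintype.card F) → (G ⧸ Subgroup.center G ≃* PSL₂) →
      ∀ T : Sylow r (G ⧸ Subgroup.center G), IsMulCommutative (T : Subgroup (G ⧸ Subgroup.center G)) :=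
    fun hr e T => Grp.HHP.sylow_commutative_of_surjective e.symm.toMonoidHom e.symm.surjective
      (psl_sylow_comm hr) T
  rcases hq with ⟨h2, -⟩ | ⟨hodd, h7⟩
  · have hs := even_sizes h2 h4 h
    obtain ⟨e⟩ := iso_psl_even (F := F) h4 h2 hs.quot_card (fun a ha => by
      rcases hs.quot_cen a ha with e1 | e1 | e1 | e1
      · exact Or.inl e1
      · exact Or.inr (Or.inl e1)
      · exact Or.inr (Or.inr e1)
      · omega) rfl
    obtain ⟨N, A, h1, h2', h3, h4', ⟨eN⟩⟩ := hs.exists_complement (commutator_quot_top h4 e) (by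
      intro r _ S z hz _
      exact inter_of_comm (fun a ha b hb => hs.sylow_comm_lift (Or.inr (by omega))
        (hsyl (Or.inr h2) e) S ha hb) hz)
    exact ⟨N, A, h1, h2', h3, h4', ⟨eN.trans e⟩⟩
  · obtain ⟨p, f, u, v, hs, d⟩ := odd_sizes hodd h7 h
    obtain ⟨e⟩ := d.iso_psl (F := F) rfl
    obtain ⟨N, A, h1, h2', h3, h4', ⟨eN⟩⟩ := hs.exists_complement (commutator_quot_top h4 e) (by
      intro r _ S z hz hzc
      by_cases hr2 : r = 2
      · subst hr2
        exact hs.two_inter hodd d.uodd d.four_dvd_v hodd e S hz hzc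
      · exact inter_of_comm (fun a ha b hb => hs.sylow_comm_lift (Or.inl hr2)
          (hsyl (Or.inl hr2) e) S ha hb) hz)
    exact ⟨N, A, h1, h2', h3, h4', ⟨eN.trans e⟩⟩

end Cfsg.Agent.Transfer.SizesPSL
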