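import Cfsg.Agent.Lib.Transfer.SizesPSL.UComp
import Cfsg.Agent.Lib.Transfer.ClassThree.Main
import Cfsg.Agent.Lib.Block.PrimeMultiplicative
import Cfsg.Agent.Lib.Block.ConstFour.Core

/-!
The Sylow `p`-subgroups are abelian.
-/

set_option autoImplicit false
set_option maxHeartbeats 1000000

open scoped Pointwise

universe w

namespace Cfsg.Agent.Transfer.SizesPSL

open Cfsg Cfsg.Agent Cfsg.Agent.Transfer.ClassDisconnected Cfsg.Agent.Transfer.ClassThree

variable {G : Type w} [Group G] [Finite G] {p f q u v : ℕ}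

/-- An element of a subgroup of index at most two that has odd order. -/
theorem mem_of_odd {K C : Subgroup G} (h : C.relIndex K ≤ 2) {x : G} (hx : x ∈ K)
    (ho : ¬ 2 ∣ orderOf x) : x ∈ C := by
  have h0 : C.relIndex K ≠ 0 := Subgroup.index_ne_zero_of_finite
  rcases (by omega : C.relIndex K = 1 ∨ C.relIndex K = 2) with e | e
  · exact Subgroup.relIndex_eq_one.1 e hx
  · obtain ⟨m, hm⟩ : ∃ m, orderOf x = 2 * m + 1 := ⟨orderOf x / 2, by omega⟩
    have h1 := Subgroup.mul_self_mem_of_index_two e (⟨x, hx⟩ : K)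
    rw [Subgroup.mem_subgroupOf, Subgroup.coe_mul] at h1
    have h2 : x = ((x * x) ^ m)⁻¹ := by
      refine eq_inv_of_mul_eq_one_left ?_
      rw [← pow_two, ← pow_mul, ← pow_succ', ← hm, pow_orderOf_eq_one]
    rw [h2]
    exact inv_mem (pow_mem h1 m)

namespace Hyp

variable (d : Hyp G p f q u v)

include d

theorem p_fact : Fact p.Prime := ⟨d.hp⟩

theorem card_sylow (R : Sylow p G) : Nat.card (R : Subgroup G) = q := by
  haveI := d.p_fact
  obtain ⟨hn1, hn2⟩ := d.p_not
  have hfac : (q * (u * v)).factorization p = f := by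
    have hq0 : q ≠ 0 := by have := d.q7; omega
    have hu0 : u ≠ 0 := by have := d.u3; omega
    rw [Nat.factorization_mul hq0 (mul_ne_zero hu0 d.v_pos.ne'), Finsupp.add_apply,
      Nat.factorization_eq_zero_of_not_dvd (n := u * v) (fun h => (d.hp.dvd_mul.1 h).elim hn1 hn2), add_zero,
      d.hq, Nat.factorization_pow, Finsupp.smul_apply, d.hp.factorization_self, smul_eq_mul, mul_one]
  have h := R.card_eq_multiplicity
  rw [d.hcard, hfac] at h
  rw [h, d.hq]

theorem cen_sylow {z : G} (hz : Nat.card (cen z) = q) : ∃ R : Sylow p G, (R : Subgroup G) = cen z := by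
  haveI := d.p_fact
  obtain ⟨R, hR⟩ := (d.isPGroup_cen hz).exists_le_sylow
  exact ⟨R, (Subgroup.eq_of_le_of_card_ge hR (le_of_eq ((d.card_sylow R).trans hz.symm))).symm⟩

theorem mem_p {D : Subgroup G} (hD : IsPGroup p D) {x : G} (hx : x ∈ D) (hx1 : x ≠ 1) :
    p ∣ orderOf x ∧ Nat.card (cen x) = q := by
  haveI := d.p_fact
  obtain ⟨i, hi⟩ := exists_pow_of_mem hD hx
  have hp : p ∣ orderOf x := by
    rcases i with _ | i
    · exact absurd (orderOf_eq_one_iff.1 (hi.trans (pow_zero p))) hx1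
    · exact hi ▸ dvd_pow_self p i.succ_ne_zero
  exact ⟨hp, d.comp_p hx1 hp⟩

theorem fpf_two {D : Subgroup G} (hD : IsPGroup p D) {s : G} (hs : orderOf s = 2) {x : G} (hx : x ∈ D)
    (hc : Commute s x) : x = 1 := by
  by_contra hx1
  exact d.not_commute_p (d.mem_p hD hx hx1).2 hc Nat.prime_two (Ne.symm d.p_ne_two) (by rw [hs])

/-- An involution normalising a nontrivial `p`-subgroup forces commutative Sylow `p`-subgroups. -/
theorem comm_of_invol {D : Subgroup G} (hD : IsPGroup p D) (hD1 : D ≠ ⊥) {s : G} (hs : orderOf s = 2)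
    (hn : s ∈ Subgroup.normalizer (D : Set G)) (R : Sylow p G) {a b : G} (ha : a ∈ (R : Subgroup G))
    (hb : b ∈ (R : Subgroup G)) : a * b = b * a := by
  haveI := d.p_fact
  have hs2 : s * s = 1 := by rw [← pow_two, ← hs, pow_orderOf_eq_one]
  obtain ⟨⟨z, hz⟩, hz1'⟩ := Subgroup.ne_bot_iff_exists_ne_one.1 hD1
  have hz1 : z ≠ 1 := fun e => hz1' (Subtype.ext e)
  have hinv := inverts_of_normalizer hs2 hn (fun x hx hc => d.fpf_two hD hs hx hc) hz
  obtain ⟨P, hP⟩ := d.cen_sylow (d.mem_p hD hz hz1).2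
  have hnP : s ∈ Subgroup.normalizer ((P : Subgroup G) : Set G) := by
    rw [Subgroup.mem_normalizer_iff]
    intro x
    rw [hP, ← conj_mem_cen (g := s) (u := x) (x := z), hinv]
    simp only [mem_cen, Commute.inv_right_iff]
  have hPinv : ∀ x ∈ (P : Subgroup G), s * x * s⁻¹ = x⁻¹ := fun x hx =>
    inverts_of_normalizer hs2 hnP (fun y hy hc => d.fpf_two P.isPGroup' hs hy hc) hx
  obtain ⟨g, hg⟩ := MulAction.exists_smul_eq G R P
  have hmem : ∀ {x : G}, x ∈ (R : Subgroup G) → g * x * g⁻¹ ∈ (P : Subgroup G) := fun {x} hx => by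
    rw [← hg, Sylow.coe_subgroup_smul]
    exact Subgroup.mem_map.2 ⟨x, hx, rfl⟩
  have h := commute_of_inverted (hPinv _ (hmem ha)) (hPinv _ (hmem hb)) (hPinv _ (mul_mem (hmem ha) (hmem hb)))
  exact (Commute.conj_iff g).1 h |>.eq

variable (hna : ¬ ∀ R : Sylow p G, ∀ a ∈ (R : Subgroup G), ∀ b ∈ (R : Subgroup G), a * b = b * a)

include hna

theorem no_invol {D : Subgroup G} (hD : IsPGroup p D) (hD1 : D ≠ ⊥) {s : G} (hs : orderOf s = 2)
    (hn : s ∈ Subgroup.normalizer (D : Set G)) : False :=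
  hna fun R _ ha _ hb => d.comm_of_invol hD hD1 hs hn R ha hb

/-- A nonabelian Sylow subgroup gives a `p`-element normalising a subgroup of another prime order. -/
theorem exists_pair : ∃ (r : ℕ) (y b : G), r.Prime ∧ r ≠ p ∧ r ≠ 2 ∧ orderOf y = r ∧ orderOf b = p ∧
    b ∈ Subgroup.normalizer (cen y : Set G) := by
  classical
  haveI := d.p_fact
  obtain ⟨R₀, a, ha, c, hc, hac⟩ : ∃ (R : Sylow p G) (a : G), a ∈ (R : Subgroup G) ∧
      ∃ c ∈ (R : Subgroup G), a * c ≠ c * a := by
    by_contra hcon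
    push Not at hcon
    exact hna hcon
  have ha1 : a ≠ 1 := fun e => hac (by rw [e, one_mul, mul_one])
  obtain ⟨R₁, hR₁⟩ := d.cen_sylow (d.mem_p R₀.isPGroup' ha ha1).2
  haveI := Fintype.ofFinite (Sylow p G)
  obtain ⟨⟨R, R'⟩, hmemS, hmax⟩ := Finset.exists_max_image
    (Finset.univ.filter fun x : Sylow p G × Sylow p G => x.1 ≠ x.2 ∧
      (x.1 : Subgroup G) ⊓ (x.2 : Subgroup G) ≠ ⊥)
    (fun x => Nat.card ((x.1 : Subgroup G) ⊓ (x.2 : Subgroup G) : Subgroup G))
    ⟨(R₀, R₁), Finset.mem_filter.2 ⟨Finset.mem_univ _, fun e => hac (by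
        have e' : R₀ = R₁ := e
        rw [e'] at hc
        exact (mem_cen.1 (hR₁ ▸ hc : c ∈ cen a)).eq.symm),
      fun e => ha1 (by
        have h1 : a ∈ (R₀ : Subgroup G) ⊓ (R₁ : Subgroup G) := ⟨ha, hR₁ ▸ self_mem_cen a⟩
        exact Subgroup.mem_bot.1 (e ▸ h1))⟩⟩
  obtain ⟨hne, hD1⟩ := (Finset.mem_filter.1 hmemS).2
  simp only at hne hD1
  set D := (R : Subgroup G) ⊓ (R' : Subgroup G) with hDdef
  have hDp : IsPGroup p D := R.isPGroup'.to_le inf_le_left
  have huniq : ∀ (E : Sylow p G) (P : Sylow p G) (K : Subgroup G), D < K → K ≤ (P : Subgroup G) →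
      K ≤ (E : Subgroup G) → P = E := by
    intro E P K hlt hP hE
    by_contra hPE
    have hle : K ≤ (P : Subgroup G) ⊓ (E : Subgroup G) := le_inf hP hE
    have h1 := hmax (P, E) (Finset.mem_filter.2 ⟨Finset.mem_univ _, hPE, fun e => by
      rw [e] at hle
      exact not_le_of_gt hlt (hle.trans bot_le)⟩)
    simp only at h1
    have h2 : Nat.card D < Nat.card ((P : Subgroup G) ⊓ (E : Subgroup G) : Subgroup G) :=
      Set.Finite.card_lt_card (Set.toFinite _) (SetLike.coe_ssubset_coe.2 (lt_of_lt_of_le hlt hle))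
    omega
  set X := Subgroup.normalizer (D : Set G) with hX
  have hgrow : ∀ P : Sylow p G, D < (P : Subgroup G) → D < X ⊓ (P : Subgroup G) := by
    intro P hlt
    haveI := P.isPGroup'.isNilpotent
    have hsub : D.subgroupOf (P : Subgroup G) < ⊤ :=
      lt_top_iff_ne_top.2 fun e => not_le_of_gt hlt (Subgroup.subgroupOf_eq_top.1 e)
    have h := normalizerCondition_of_isNilpotent _ hsub
    obtain ⟨g, hg, hgD⟩ := SetLike.exists_of_lt h
    refine lt_of_le_of_ne (le_inf Subgroup.le_normalizer hlt.le) fun e => hgD ?_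
    rw [Subgroup.mem_subgroupOf, e]
    refine ⟨?_, g.2⟩
    rw [Subgroup.mem_normalizer_iff] at hg
    show (g : G) ∈ Subgroup.normalizer (D : Set G)
    rw [Subgroup.mem_normalizer_iff]
    intro x
    constructor
    · intro hx
      exact (hg ⟨x, hlt.le hx⟩).1 hx
    · intro hx
      have h1 := hlt.le hx
      have hxP : x ∈ (P : Subgroup G) := by
        have h2 := mul_mem (mul_mem (inv_mem g.2) h1) g.2
        rwa [show (g : G)⁻¹ * ((g : G) * x * (g : G)⁻¹) * (g : G) = x by group] at h2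
      exact (hg ⟨x, hxP⟩).2 hx
  have hltR : D < (R : Subgroup G) := lt_of_le_of_ne inf_le_left fun e => hne (Sylow.ext
    (Subgroup.eq_of_le_of_card_ge (e ▸ inf_le_right) (le_of_eq ((d.card_sylow R').trans (d.card_sylow R).symm))))
  have hltR' : D < (R' : Subgroup G) := lt_of_le_of_ne inf_le_right fun e => hne (Sylow.ext
    (Subgroup.eq_of_le_of_card_ge (e ▸ inf_le_left) (le_of_eq ((d.card_sylow R).trans (d.card_sylow R').symm))).symm)
  have hin : ∀ (P : Sylow p G) (K : Subgroup G), D < (P : Subgroup G) → IsPGroup p K →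
      X ⊓ (P : Subgroup G) ≤ K → K ≤ (P : Subgroup G) := by
    intro P K hlt hK hle
    obtain ⟨E, hE⟩ := hK.exists_le_sylow
    rw [huniq E P _ (hgrow P hlt) inf_le_right (hle.trans hE)]
    exact hE
  have hXodd : ¬ 2 ∣ Nat.card X := fun h => by
    obtain ⟨s, hs⟩ := exists_prime_orderOf_dvd_card' (hp := ⟨Nat.prime_two⟩) 2 h
    exact d.no_invol hna hDp hD1 (by rw [Subgroup.orderOf_coe, hs]) s.2
  haveI : Group.IsSolvable X := isSolvable_of_not_two_dvd hXodd
  set D' := D.subgroupOf X with hD'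
  haveI hD'n : D'.Normal := Subgroup.normal_subgroupOf_of_le_normalizer le_rfl
  have hDX : D ≤ X := Subgroup.le_normalizer
  have hcore : ∀ O : Subgroup X, O.Normal → IsPGroup p O → O ≤ D' := by
    intro O hO hOp x hx
    have key : ∀ P : Sylow p G, D < (P : Subgroup G) → (x : G) ∈ (P : Subgroup G) := by
      intro P hlt
      have h1 : IsPGroup p ↥(O ⊔ (P : Subgroup G).subgroupOf X) :=
        hOp.to_sup_of_normal_left (P.isPGroup'.comap_of_injective X.subtype X.subtype_injective)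
      refine hin P _ hlt (h1.map X.subtype) ?_ ⟨x, Subgroup.mem_sup_left hx, rfl⟩
      rintro g ⟨hgX, hgP⟩
      exact ⟨⟨g, hgX⟩, Subgroup.mem_sup_right (Subgroup.mem_subgroupOf.2 hgP), rfl⟩
    exact Subgroup.mem_subgroupOf.2 ⟨key R hltR, key R' hltR'⟩
  have hD'p : IsPGroup p D' := hDp.comap_of_injective X.subtype X.subtype_injective
  have hpX : p ∣ D'.index := by
    set P' := (R : Subgroup G).subgroupOf X
    have hlt : D' < P' := by
      refine lt_of_le_of_ne (fun g hg => (Subgroup.mem_subgroupOf.1 hg).1) fun e => ?_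
      refine (hgrow R hltR).ne' (le_antisymm ?_ (le_inf hDX inf_le_left))
      rintro g ⟨hgX, hgR⟩
      have h1 : (⟨g, hgX⟩ : X) ∈ D' := e ▸ Subgroup.mem_subgroupOf.2 hgR
      exact h1
    haveI : (D'.subgroupOf P').FiniteIndex := ⟨Subgroup.index_ne_zero_of_finite⟩
    have hP'p : IsPGroup p P' := R.isPGroup'.comap_of_injective X.subtype X.subtype_injective
    obtain ⟨n, hn⟩ := hP'p.index (D'.subgroupOf P')
    refine (?_ : p ∣ D'.relIndex P').trans (Subgroup.relIndex_dvd_index_of_normal D' P')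
    rw [Subgroup.relIndex, hn]
    rcases n with _ | n
    · exact absurd (Subgroup.subgroupOf_eq_top.1 (Subgroup.index_eq_one.1 (hn.trans (pow_zero p))))
        (not_le_of_gt hlt)
    · exact dvd_pow_self p n.succ_ne_zero
  set π := QuotientGroup.mk' D'
  have hQ : (⊤ : Subgroup (X ⧸ D')) ≠ ⊥ := fun e => d.hp.ne_one (Nat.dvd_one.1 (by
    rw [Subgroup.index_eq_card] at hpX
    rwa [← Subgroup.card_top (G := X ⧸ D'), e, Subgroup.card_bot] at hpX))
  obtain ⟨A, hA, hA1, hAab⟩ := exists_abelian_le (⊤ : Subgroup (X ⧸ D')) inferInstance hQ inferInstance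
  haveI := hA
  obtain ⟨r, hr, hrA⟩ := Nat.exists_prime_and_dvd (fun e => hA1 (Subgroup.card_eq_one.1 e))
  haveI : Fact r.Prime := ⟨hr⟩
  obtain ⟨Ar⟩ : Nonempty (Sylow r A) := inferInstance
  haveI : IsMulCommutative A := ⟨⟨fun x y => Subtype.ext (hAab x x.2 y y.2)⟩⟩
  haveI : (Ar : Subgroup A).Characteristic := Ar.characteristic_of_normal inferInstance
  set B := (Ar : Subgroup A).map A.subtype with hB
  haveI hBn : B.Normal := inferInstance
  have hBp : IsPGroup r B := Ar.isPGroup'.map _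
  have hB1 : B ≠ ⊥ := fun e => by
    have h1 := Ar.dvd_card_of_dvd_card hrA
    rw [hB, Subgroup.map_eq_bot_iff_of_injective _ A.subtype_injective] at e
    rw [e, Subgroup.card_bot, Nat.dvd_one] at h1
    exact hr.ne_one h1
  set V := B.comap π with hV
  haveI hVn : V.Normal := Subgroup.Normal.comap hBn π
  have hrp : r ≠ p := by
    rintro rfl
    have hVp : IsPGroup r V := hBp.comap_of_ker_isPGroup π (by rw [QuotientGroup.ker_mk']; exact hD'p)
    refine hB1 (le_bot_iff.1 ?_)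
    rw [← Subgroup.map_comap_eq_self_of_surjective (QuotientGroup.mk'_surjective D') B,
      Subgroup.map_le_iff_le_comap, MonoidHom.comap_bot, QuotientGroup.ker_mk']
    exact hcore V hVn hVp
  obtain ⟨R₂⟩ : Nonempty (Sylow r V) := inferInstance
  have hrV : r ∣ Nat.card V := by
    obtain ⟨b, hb1⟩ := Subgroup.ne_bot_iff_exists_ne_one.1 hB1
    obtain ⟨i, hi⟩ := exists_pow_of_mem hBp b.2
    have hrB : r ∣ Nat.card B := by
      rcases i with _ | i
      · exact absurd (Subtype.ext (orderOf_eq_one_iff.1 (hi.trans (pow_zero r)))) hb1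
      · exact (hi ▸ dvd_pow_self r i.succ_ne_zero).trans (Subgroup.orderOf_dvd_natCard _ b.2)
    rw [← Subgroup.map_comap_eq_self_of_surjective (QuotientGroup.mk'_surjective D') B] at hrB
    exact hrB.trans (Subgroup.card_map_dvd (H := V) π)
  set R₃ : Subgroup X := (R₂ : Subgroup V).map V.subtype with hR₃
  have hR₃1 : R₃ ≠ ⊥ := fun e => by
    have h1 := R₂.dvd_card_of_dvd_card hrV
    rw [hR₃, Subgroup.map_eq_bot_iff_of_injective _ V.subtype_injective] at e
    rw [e, Subgroup.card_bot, Nat.dvd_one] at h1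
    exact hr.ne_one h1
  have hR₃p : IsPGroup r R₃ := R₂.isPGroup'.map _
  have hfrat : Subgroup.normalizer (R₃ : Set X) ⊔ V = ⊤ := Sylow.normalizer_sup_eq_top R₂
  have hpN : p ∣ Nat.card (Subgroup.normalizer (R₃ : Set X)) := by
    have h1 : p ∣ V.index := by
      obtain ⟨n, hn⟩ := IsPGroup.iff_card.1 hBp
      have h2 : D'.index = Nat.card B * V.index := by
        rw [hV, Subgroup.index_comap_of_surjective B (QuotientGroup.mk'_surjective D'),
          B.card_mul_index, Subgroup.index_eq_card]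
      rw [h2, hn] at hpX
      exact (d.hp.dvd_mul.1 hpX).resolve_left fun h =>
        hrp ((Nat.prime_dvd_prime_iff_eq d.hp hr).1 (d.hp.dvd_of_dvd_pow h)).symm
    refine h1.trans ?_
    rw [← Subgroup.relIndex_top_right V, ← hfrat, Subgroup.relIndex_sup_right]
    exact Subgroup.relIndex_dvd_card _ _
  obtain ⟨b, hb⟩ := exists_prime_orderOf_dvd_card' p hpN
  rw [← Subgroup.orderOf_coe] at hb
  set E := (Subgroup.center R₃).map R₃.subtype with hE
  have hER : E ≤ R₃ := Subgroup.map_subtype_le _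
  haveI : Nontrivial R₃ := (Subgroup.nontrivial_iff_ne_bot R₃).2 hR₃1
  have hE1 : E ≠ ⊥ := by
    rw [hE, Ne, Subgroup.map_eq_bot_iff_of_injective _ R₃.subtype_injective]
    intro e
    have h1 := (Subgroup.nontrivial_iff_ne_bot _).1 hR₃p.center_nontrivial
    exact h1 e
  have hEab : ∀ x ∈ E, ∀ z ∈ E, x * z = z * x := by
    rintro _ ⟨x, hx, rfl⟩ _ ⟨z, hz, rfl⟩
    exact congrArg Subtype.val (Subgroup.mem_center_iff.1 hz x)
  have hD'1 : D' ≠ ⊥ := fun e => hD1 (by
    rw [hD', Subgroup.subgroupOf_eq_bot, disjoint_iff, inf_eq_left.2 hDX] at e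
    exact e)
  have hrdvd : ∀ {x : X}, x ∈ R₃ → x ≠ 1 → r ∣ orderOf (x : G) := fun {x} hx hx1 => by
    obtain ⟨i, hi⟩ := exists_pow_of_mem hR₃p hx
    rw [Subgroup.orderOf_coe, hi]
    rcases i with _ | i
    · exact absurd (orderOf_eq_one_iff.1 (hi.trans (pow_zero r))) hx1
    · exact dvd_pow_self r i.succ_ne_zero
  have hcyc : IsCyclic E := Cfsg.Agent.Block.PrimeMul.isCyclic_of_fpf E D' hD'1 hE1 hEab fun x hx hx1 z hz hc => by
    by_contra hz1
    exact d.not_commute_p (d.mem_p hDp (x := (z : G)) hz (fun e => hz1 (Subtype.ext e))).2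
      (show Commute (x : G) z from congrArg Subtype.val hc) hr hrp (hrdvd (hER hx) hx1)
  obtain ⟨y, hy⟩ := exists_prime_orderOf_dvd_card' (G := E) r (by
    obtain ⟨i, hi⟩ := IsPGroup.iff_card.1 (hR₃p.to_le hER)
    rcases i with _ | i
    · exact absurd (Subgroup.card_eq_one.1 (hi.trans (pow_zero r))) hE1
    · exact hi ▸ dvd_pow_self r i.succ_ne_zero)
  rw [← Subgroup.orderOf_coe] at hy
  have hEn : (b : X) * (y : X) * (b : X)⁻¹ ∈ E := by
    obtain ⟨y0, hy0, hy0e⟩ := y.2
    have hy0' : (y : X) ∈ R₃ := hER y.2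
    refine ⟨⟨_, conj_mem_of_normalizer b.2 hy0'⟩, ?_, rfl⟩
    rw [SetLike.mem_coe, Subgroup.mem_center_iff]
    intro g
    refine Subtype.ext ?_
    show (g : X) * ((b : X) * y * (b : X)⁻¹) = ((b : X) * y * (b : X)⁻¹) * g
    have hg : (b : X)⁻¹ * g * (b : X) ∈ R₃ := by
      have h1 := conj_mem_of_normalizer (inv_mem b.2) g.2
      rwa [inv_inv] at h1
    have h2 := congrArg Subtype.val (Subgroup.mem_center_iff.1 hy0 ⟨_, hg⟩)
    simp only [Subgroup.coe_mul] at h2
    rw [show (y0 : X) = (y : X) from hy0e] at h2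
    calc (g : X) * ((b : X) * y * (b : X)⁻¹) = (b : X) * (((b : X)⁻¹ * g * b) * y) * (b : X)⁻¹ := by group
      _ = (b : X) * ((y : X) * ((b : X)⁻¹ * g * b)) * (b : X)⁻¹ := by rw [h2]
      _ = _ := by group
  have hpow : ∃ j : ℕ, (b : X) * (y : X) * (b : X)⁻¹ = (y : X) ^ j := by
    haveI := hcyc
    haveI := Fintype.ofFinite E
    have hle := IsCyclic.card_pow_eq_one_le (α := E) hr.pos
    let s : Finset E := (Finset.range r).image fun j => y ^ j
    have hyo : orderOf y = r := by rw [← Subgroup.orderOf_coe, hy]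
    have hs : s ⊆ Finset.univ.filter fun e : E => e ^ r = 1 := by
      intro e he
      obtain ⟨j, -, rfl⟩ := Finset.mem_image.1 he
      refine Finset.mem_filter.2 ⟨Finset.mem_univ _, ?_⟩
      rw [← pow_mul, mul_comm, pow_mul, ← hyo, pow_orderOf_eq_one, one_pow]
    have hsc : s.card = r := by
      rw [Finset.card_image_of_injOn, Finset.card_range]
      intro i hi j hj e
      exact pow_injOn_Iio_orderOf (by simpa [hyo] using hi) (by simpa [hyo] using hj) e
    have heq := Finset.eq_of_subset_of_card_le hs (hsc ▸ hle)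
    have hmem : (⟨_, hEn⟩ : E) ∈ s := by
      rw [heq]
      refine Finset.mem_filter.2 ⟨Finset.mem_univ _, Subtype.ext ?_⟩
      show ((b : X) * y * (b : X)⁻¹) ^ r = 1
      rw [conj_pow, ← hy, pow_orderOf_eq_one, mul_one, mul_inv_cancel]
    obtain ⟨j, -, hj⟩ := Finset.mem_image.1 hmem
    exact ⟨j, (congrArg Subtype.val hj).symm⟩
  obtain ⟨j, hj⟩ := hpow
  have hjG : ((b : X) : G) * ((y : X) : G) * ((b : X) : G)⁻¹ = ((y : X) : G) ^ j := congrArg Subtype.val hj
  set bG := ((b : X) : G)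
  set yG := ((y : X) : G)
  have hy2 : r ≠ 2 := fun e => hXodd (e ▸ hy ▸ orderOf_dvd_natCard (y : X))
  refine ⟨r, yG, bG, hr, hrp, hy2, by rw [Subgroup.orderOf_coe, hy], by rw [Subgroup.orderOf_coe, hb], ?_⟩
  have he : cen yG = cen (bG * yG * bG⁻¹) := Subgroup.eq_of_le_of_card_ge
    (hjG ▸ centralizer_le_pow yG j) (le_of_eq (cen_card_conj (isConj_iff.2 ⟨bG, rfl⟩)).symm)
  rw [Subgroup.mem_normalizer_iff]
  intro g
  constructor <;> intro hg
  · rw [he]; exact conj_mem_cen.2 hg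
  · rw [he] at hg; exact conj_mem_cen.1 hg

end Hyp

end Cfsg.Agent.Transfer.SizesPSL
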