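import Cfsg.Agent.Lib.Transfer.ClassThree.Basic

/-!
Groups whose class sizes are `uv`, `qv`, `qu` and possibly `2qu`, for pairwise coprime `q`, `u`, `v`:
the centre has index `quv`.
-/

set_option autoImplicit false
set_option maxHeartbeats 1000000

open scoped Pointwise

universe w

namespace Cfsg.Agent.Transfer.SizesPSL

open Cfsg Cfsg.Agent Cfsg.Agent.Transfer.ClassDisconnected Cfsg.Agent.Transfer.ClassThree

variable {G : Type w} [Group G] [Finite G]

/-- The hypothesis on the class sizes. -/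
structure Sizes (G : Type w) [Group G] (q u v : ℕ) : Prop where
  q1 : 1 < q
  u1 : 1 < u
  v2 : 2 < v
  cqu : q.Coprime u
  cqv : q.Coprime v
  cuv : u.Coprime v
  sA : ∃ g : G, cix g = u * v
  sB : ∃ g : G, cix g = q * v
  sC : ∃ g : G, cix g = q * u
  sizes : ∀ g : G, g ∉ Subgroup.center G →
    cix g = u * v ∨ cix g = q * v ∨ cix g = q * u ∨ (cix g = 2 * (q * u) ∧ 2 ∣ v)

theorem center_le_cen (x : G) : Subgroup.center G ≤ cen x := fun z hz =>
  mem_cen.2 (Subgroup.mem_center_iff.1 hz x).symm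

/-- The order of the centraliser modulo the centre. -/
noncomputable abbrev cb (x : G) : ℕ := (Subgroup.center G).relIndex (cen x)

theorem cb_mul_cix (x : G) : cb x * cix x = (Subgroup.center G).index :=
  Subgroup.relIndex_mul_index (center_le_cen x)

/-- A prime dividing the index of `Z` in `K` is the prime of an element of `K` outside `Z`. -/
theorem exists_primary {Z K : Subgroup G} (hle : Z ≤ K) {r : ℕ} [hr : Fact r.Prime]
    (h : r ∣ Z.relIndex K) : ∃ y ∈ K, y ∉ Z ∧ ∃ i, orderOf y = r ^ i := by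
  obtain ⟨R⟩ : Nonempty (Sylow r K) := inferInstance
  by_contra hcon
  push Not at hcon
  have hRZ : (R : Subgroup K) ≤ Z.subgroupOf K := fun y hy => by
    obtain ⟨i, hi⟩ := exists_pow_of_mem R.isPGroup' hy
    by_contra hc
    exact hcon (y : G) y.2 hc i (by rw [← hi, Subgroup.orderOf_coe])
  exact R.not_dvd_index (h.trans (Subgroup.index_dvd_of_le hRZ))

theorem mem_sylow_of_le_cen {r : ℕ} [Fact r.Prime] (R : Sylow r G) {y : G} (hR : (R : Subgroup G) ≤ cen y)
    {i : ℕ} (hy : orderOf y = r ^ i) : y ∈ (R : Subgroup G) := by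
  have hn : Subgroup.zpowers y ≤ Subgroup.normalizer ((R : Subgroup G) : Set G) := by
    rw [Subgroup.zpowers_le, Subgroup.mem_normalizer_iff]
    intro g
    constructor
    · intro hg
      rw [← (mem_cen.1 (hR hg)).eq, mul_inv_cancel_right]
      exact hg
    · intro hg
      have h1 : Commute (y * g * y⁻¹) y := mem_cen.1 (hR hg)
      have h2 : Commute g y := by
        have h3 : y * (y * g * y⁻¹) = y * g := by rw [← h1.eq, inv_mul_cancel_right]
        rw [mul_left_cancel_iff] at h3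
        exact (mul_inv_eq_iff_eq_mul.1 h3).symm
      rwa [← h2.eq, mul_inv_cancel_right] at hg
  have hp : IsPGroup r ↥((R : Subgroup G) ⊔ Subgroup.zpowers y) :=
    R.isPGroup'.to_sup_of_normal_left' (isPGroup_zpowers hy) hn
  have h1 := R.is_maximal' hp le_sup_left
  exact h1 ▸ (le_sup_right : Subgroup.zpowers y ≤ _) (Subgroup.mem_zpowers y)

theorem exists_conj_mem_sylow {r : ℕ} [Fact r.Prime] (R : Sylow r G) {y : G} {i : ℕ} (hy : orderOf y = r ^ i) :
    ∃ g : G, g * y * g⁻¹ ∈ (R : Subgroup G) := by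
  obtain ⟨P, hP⟩ := exists_sylow_mem hy
  obtain ⟨g, hg⟩ := MulAction.exists_smul_eq G P R
  refine ⟨g, ?_⟩
  rw [← hg, Sylow.coe_subgroup_smul, Subgroup.mem_pointwise_smul_iff_inv_smul_mem, MulAut.smul_def,
    ← map_inv, MulAut.conj_apply, inv_inv, show g⁻¹ * (g * y * g⁻¹) * g = y by group]
  exact hP

namespace Sizes

variable {q u v : ℕ}

theorem symm (h : Sizes G q u v) : Sizes G u q v :=
  ⟨h.u1, h.q1, h.v2, h.cqu.symm, h.cuv, h.cqv, h.sB, h.sA, by rw [mul_comm]; exact h.sC, fun g hg => by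
    rw [mul_comm u q]
    rcases h.sizes g hg with e | e | e | e
    · exact Or.inr (Or.inl e)
    · exact Or.inl e
    · exact Or.inr (Or.inr (Or.inl e))
    · exact Or.inr (Or.inr (Or.inr e))⟩

/-- The size `uv` is the only size comparable to it. -/
theorem rigid (h : Sizes G q u v) {g : G} (hg : g ∉ Subgroup.center G)
    (hd : u * v ∣ cix g ∨ cix g ∣ u * v) : cix g = u * v := by
  have key : ∀ {a b c : ℕ}, a.Coprime b → 2 < b * c → b ∣ a * c → b = 1 ∨ b ∣ c := fun hab _ hd' =>
    Or.inr ((Nat.Coprime.dvd_of_dvd_mul_left hab.symm hd'))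
  have hq := h.q1; have hu := h.u1; have hv := h.v2
  rcases h.sizes g hg with e | e | e | ⟨e, -⟩
  · exact e
  · exfalso
    rw [e] at hd
    rcases hd with hd | hd
    · have := (Nat.dvd_of_mul_dvd_mul_right (by omega) hd)
      rw [Nat.eq_one_of_dvd_coprimes h.cqu.symm dvd_rfl this] at hu
      omega
    · have := (Nat.dvd_of_mul_dvd_mul_right (by omega) hd)
      rw [Nat.eq_one_of_dvd_coprimes h.cqu dvd_rfl this] at hq
      omega
  · exfalso
    rw [e] at hd
    rcases hd with hd | hd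
    · rw [mul_comm u v] at hd
      have := (Nat.dvd_of_mul_dvd_mul_right (by omega) hd)
      rw [Nat.eq_one_of_dvd_coprimes h.cqv.symm dvd_rfl this] at hv
      omega
    · rw [mul_comm u v] at hd
      have := (Nat.dvd_of_mul_dvd_mul_right (by omega) hd)
      rw [Nat.eq_one_of_dvd_coprimes h.cqv dvd_rfl this] at hq
      omega
  · exfalso
    rw [e] at hd
    rcases hd with hd | hd
    · rw [show 2 * (q * u) = 2 * q * u by ring, mul_comm u v] at hd
      have h1 := (Nat.dvd_of_mul_dvd_mul_right (by omega) hd)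
      have h2 := Nat.Coprime.dvd_of_dvd_mul_right h.cqv.symm h1
      have := Nat.le_of_dvd two_pos h2
      omega
    · rw [show 2 * (q * u) = 2 * q * u by ring, mul_comm u v] at hd
      have h1 := (Nat.dvd_of_mul_dvd_mul_right (by omega) hd)
      rw [Nat.eq_one_of_dvd_coprimes h.cqv dvd_rfl ((dvd_mul_left q 2).trans h1)] at hq
      omega

theorem uv_ne_one (h : Sizes G q u v) : u * v ≠ 1 := fun e => by
  have := Nat.eq_one_of_mul_eq_one_right e
  have := h.u1
  omega

theorem noncentral (h : Sizes G q u v) {g : G} (hg : cix g = u * v) : g ∉ Subgroup.center G := fun hc =>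
  h.uv_ne_one (by rw [← hg, cix_eq_one.2 hc])

/-- Commuting elements of coprime orders, the first of size `uv`, have the same centraliser. -/
theorem same (h : Sizes G q u v) {x y : G} (hx : cix x = u * v) (hxy : Commute x y)
    (hc : (orderOf x).Coprime (orderOf y)) (hy : y ∉ Subgroup.center G) :
    cen x = cen y ∧ cix y = u * v := by
  have hle := cen_mul_le hxy hc
  have hle' := cen_mul_le' hxy hc
  have hd : u * v ∣ cix (x * y) := hx ▸ Subgroup.index_dvd_of_le hle
  have hn : x * y ∉ Subgroup.center G := fun hcn => by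
    rw [cix_eq_one.2 hcn, Nat.dvd_one] at hd
    exact h.uv_ne_one hd
  have e := h.rigid hn (Or.inl hd)
  have hxy' : cen x = cen (x * y) := (cen_eq_of_le hle (e.trans hx.symm)).symm
  have hle2 : cen x ≤ cen y := hxy' ▸ hle'
  have hyd : cix y ∣ u * v := hx ▸ Subgroup.index_dvd_of_le hle2
  have hy' := h.rigid hy (Or.inr hyd)
  exact ⟨cen_eq_of_le hle2 (hx.trans hy'.symm), hy'⟩

/-- Some element of prime-power order has size `uv`. -/
theorem exists_primary_A (h : Sizes G q u v) :
    ∃ x : G, cix x = u * v ∧ ∃ s i : ℕ, s.Prime ∧ orderOf x = s ^ i := by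
  obtain ⟨g, hg⟩ := h.sA
  obtain ⟨j, s, k, hs, hk, hj⟩ := exists_primary_noncentral (h.noncentral hg)
  exact ⟨g ^ j, h.rigid hj (Or.inr (hg ▸ cix_pow_dvd g j)), s, k, hs, hk⟩

theorem cb_A (h : Sizes G q u v) {x : G} (hx : cix x = u * v) {k : ℕ}
    (hk : (Subgroup.center G).index = k * (q * (u * v))) : cb x = k * q := by
  have h1 := cb_mul_cix x
  rw [hx, hk, ← mul_assoc k q (u * v)] at h1
  exact Nat.eq_of_mul_eq_mul_right (Nat.pos_of_ne_zero fun e => by
    rw [Nat.mul_eq_zero] at e; have := h.u1; have := h.v2; omega) h1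

/-- For a prime dividing `k`, every centraliser of a noncentral element has a noncentral element. -/
theorem exists_r_elem (h : Sizes G q u v) {k r : ℕ} [hr : Fact r.Prime]
    (hk : (Subgroup.center G).index = k * (q * (u * v))) (hrk : r ∣ k) :
    ∃ y : G, cix y = u * v ∧ ∃ i, orderOf y = r ^ i := by
  obtain ⟨x, hx, s, i, hs, hi⟩ := h.exists_primary_A
  by_cases hsr : s = r
  · exact ⟨x, hx, i, hsr ▸ hi⟩
  obtain ⟨y, hyc, hyZ, j, hj⟩ := exists_primary (center_le_cen x)
    (h.cb_A hx hk ▸ Dvd.dvd.mul_right hrk q : r ∣ cb x)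
  exact ⟨y, (h.same hx (mem_cen.1 hyc).symm (ne_of_mem_prime hs hr.out hi hj hsr) hyZ).2, j, hj⟩

/-- An `r`-element of size `uv` whose centraliser is no `r`-group modulo the centre transfers its size. -/
theorem central_size (h : Sizes G q u v) {r : ℕ} [hr : Fact r.Prime] {y z : G} (hy : cix y = u * v)
    {i : ℕ} (hyo : orderOf y = r ^ i) {j : ℕ} (hzo : orderOf z = r ^ j) (hyz : Commute y z)
    (hz : z ∉ Subgroup.center G) (hnp : ∃ s : ℕ, s.Prime ∧ s ≠ r ∧ s ∣ cb y) : cix z = u * v := by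
  obtain ⟨s, hs, hsr, hsd⟩ := hnp
  haveI : Fact s.Prime := ⟨hs⟩
  obtain ⟨x, hxc, hxZ, l, hl⟩ := exists_primary (center_le_cen y) hsd
  obtain ⟨he, hxA⟩ := h.same hy (mem_cen.1 hxc).symm (ne_of_mem_prime hr.out hs hyo hl (Ne.symm hsr)) hxZ
  have hzx : z ∈ cen x := he ▸ mem_cen.2 hyz.symm
  exact (h.same hxA (mem_cen.1 hzx).symm (ne_of_mem_prime hs hr.out hl hzo hsr) hz).2

theorem dvd_index (h : Sizes G q u v) : q * (u * v) ∣ (Subgroup.center G).index := by
  obtain ⟨a, ha⟩ := h.sA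
  obtain ⟨b, hb⟩ := h.sB
  have h1 : u * v ∣ (Subgroup.center G).index := ⟨cb a, by rw [← cb_mul_cix a, ha]; ring⟩
  have h2 : q ∣ (Subgroup.center G).index := ⟨cb b * v, by rw [← cb_mul_cix b, hb]; ring⟩
  exact (Nat.Coprime.mul_right h.cqu h.cqv).mul_dvd_of_dvd_of_dvd h2 h1

/-- The index of the centre. -/
theorem index_center (h : Sizes G q u v) : (Subgroup.center G).index = q * (u * v) := by
  obtain ⟨k, hk⟩ := h.dvd_index
  rw [mul_comm] at hk
  by_contra hne
  have hk1 : k ≠ 1 := fun e => hne (by rw [hk, e, one_mul])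
  obtain ⟨r, hr, hrk⟩ := Nat.exists_prime_and_dvd hk1
  haveI : Fact r.Prime := ⟨hr⟩
  obtain ⟨R⟩ : Nonempty (Sylow r G) := inferInstance
  have hk' : (Subgroup.center G).index = k * (u * (q * v)) := by rw [hk]; ring
  obtain ⟨yA, hA, iA, hiA⟩ := h.exists_r_elem hk hrk
  obtain ⟨yB, hB, iB, hiB⟩ := h.symm.exists_r_elem hk' hrk
  obtain ⟨gA, hgA⟩ := exists_conj_mem_sylow R hiA
  obtain ⟨gB, hgB⟩ := exists_conj_mem_sylow R hiB
  replace hA : cix (gA * yA * gA⁻¹) = u * v := by rw [cix_conj, hA]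
  replace hB : cix (gB * yB * gB⁻¹) = q * v := by rw [cix_conj, hB]
  replace hiA : orderOf (gA * yA * gA⁻¹) = r ^ iA := by rw [orderOf_conj', hiA]
  replace hiB : orderOf (gB * yB * gB⁻¹) = r ^ iB := by rw [orderOf_conj', hiB]
  have hne' : u * v ≠ q * v := fun e => by
    have h1 := Nat.eq_of_mul_eq_mul_right (by have := h.v2; omega) e
    have := h.cqu
    rw [h1, Nat.coprime_self] at this
    have := h.q1
    omega
  by_cases hz : ∃ z ∈ (R : Subgroup G), z ∉ Subgroup.center G ∧ (R : Subgroup G) ≤ cen z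
  · obtain ⟨z, hzR, hzZ, hRz⟩ := hz
    have hzr : ¬ r ∣ cix z := fun hd => R.not_dvd_index (hd.trans (Subgroup.index_dvd_of_le hRz))
    obtain ⟨j, hj⟩ := exists_pow_of_mem R.isPGroup' hzR
    have hcA : Commute (gA * yA * gA⁻¹) z := mem_cen.1 (hRz hgA)
    have hcB : Commute (gB * yB * gB⁻¹) z := mem_cen.1 (hRz hgB)
    have hother : ∀ {n : ℕ} {y : G}, cb y = k * n → 1 < n → n.Coprime r →
        ∃ s : ℕ, s.Prime ∧ s ≠ r ∧ s ∣ cb y := by
      intro n y hy hn hcop
      obtain ⟨s, hs, hsn⟩ := Nat.exists_prime_and_dvd hn.ne'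
      refine ⟨s, hs, fun e => ?_, hy ▸ Dvd.dvd.mul_left hsn k⟩
      rw [e] at hsn
      exact hr.ne_one (Nat.eq_one_of_dvd_coprimes hcop hsn dvd_rfl)
    by_cases hrq : r ∣ q
    · have hu : u.Coprime r := (Nat.Coprime.coprime_dvd_left hrq h.cqu).symm
      have e := h.symm.central_size hB hiB hj hcB hzZ (hother (h.symm.cb_A hB hk') h.u1 hu)
      exact hzr (e ▸ Dvd.dvd.mul_right hrq v)
    · have hq : q.Coprime r := ((hr.coprime_iff_not_dvd).2 hrq).symm
      have e := h.central_size hA hiA hj hcA hzZ (hother (h.cb_A hA hk) h.q1 hq)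
      by_cases hru : r ∣ u
      · exact hzr (e ▸ Dvd.dvd.mul_right hru v)
      · have hu : u.Coprime r := ((hr.coprime_iff_not_dvd).2 hru).symm
        exact hne' (e.symm.trans
          (h.symm.central_size hB hiB hj hcB hzZ (hother (h.symm.cb_A hB hk') h.u1 hu)))
  · push Not at hz
    obtain ⟨g, hg, hrg⟩ : ∃ g : G, g ∉ Subgroup.center G ∧ ¬ r ∣ cix g := by
      obtain ⟨a, ha⟩ := h.sA
      obtain ⟨b, hb⟩ := h.sB
      obtain ⟨c, hc⟩ := h.sC
      by_cases hrv : r ∣ v
      · refine ⟨c, fun hcn => ?_, fun hd => ?_⟩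
        · rw [cix_eq_one.2 hcn] at hc
          have := Nat.eq_one_of_mul_eq_one_right hc.symm
          have := h.q1; omega
        · exact hr.ne_one (Nat.eq_one_of_dvd_coprimes (Nat.Coprime.mul_left h.cqv h.cuv) (hc ▸ hd) hrv)
      · by_cases hru : r ∣ u
        · refine ⟨b, h.symm.noncentral hb, fun hd => ?_⟩
          exact hr.ne_one (Nat.eq_one_of_dvd_coprimes (Nat.Coprime.mul_left h.cqu h.cuv.symm) (hb ▸ hd) hru)
        · refine ⟨a, h.noncentral ha, fun hd => ?_⟩
          rw [ha] at hd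
          exact (hr.dvd_mul.1 hd).elim hru hrv
    obtain ⟨j, s, l, hs, hl, hj⟩ := exists_primary_noncentral hg
    have hrx : ¬ r ∣ cix (g ^ j) := fun hd => hrg (hd.trans (cix_pow_dvd g j))
    obtain ⟨P, hP⟩ := exists_sylow_le_centralizer hrx
    obtain ⟨c, hc⟩ := MulAction.exists_smul_eq G P R
    set x := c * g ^ j * c⁻¹ with hx
    have hRx : (R : Subgroup G) ≤ cen x := by
      intro e he
      rw [← hc, Sylow.coe_subgroup_smul, Subgroup.mem_pointwise_smul_iff_inv_smul_mem, MulAut.smul_def,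
        ← map_inv, MulAut.conj_apply, inv_inv] at he
      have h1 := (conj_mem_cen (g := c)).2 (hP he)
      rwa [show c * (c⁻¹ * e * c) * c⁻¹ = e by group] at h1
    have hxZ : x ∉ Subgroup.center G := fun hxc => hj (by
      have h1 := cix_eq_one.2 hxc
      rw [hx, cix_conj] at h1
      exact cix_eq_one.1 h1)
    have hsr : s ≠ r := by
      rintro rfl
      exact hz x (mem_sylow_of_le_cen R hRx (by rw [hx, orderOf_conj', hl])) hxZ hRx
    have hxo : orderOf x = s ^ l := by rw [hx, orderOf_conj', hl]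
    have e1 := (h.same hA (mem_cen.1 (hRx hgA)) (ne_of_mem_prime hr hs hiA hxo (Ne.symm hsr)) hxZ).2
    have e2 := (h.symm.same hB (mem_cen.1 (hRx hgB)) (ne_of_mem_prime hr hs hiB hxo (Ne.symm hsr)) hxZ).2
    exact hne' (e1.symm.trans e2)

end Sizes

end Cfsg.Agent.Transfer.SizesPSL
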