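import Cfsg.Agent.Lib.Transfer.SizesPSL.OddAb
import Cfsg.Agent.Lib.Transfer.SizesPSL.Sizes

/-!
The Sylow `p`-subgroups are abelian: the final contradiction.
-/

set_option autoImplicit false
set_option maxHeartbeats 1000000

open scoped Pointwise

universe w

namespace Cfsg.Agent.Transfer.SizesPSL

open Cfsg Cfsg.Agent Cfsg.Agent.Transfer.ClassDisconnected Cfsg.Agent.Transfer.ClassThree

variable {G : Type w} [Group G] [Finite G] {p f q u v : ℕ}

omit [Finite G] in
theorem exists_two_odd_split {x : G} (hx : IsOfFinOrder x) :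
    ∃ n a : ℕ, (x ^ n) ^ 2 ^ a = 1 ∧ ¬ 2 ∣ orderOf (x * (x ^ n)⁻¹) := by
  obtain ⟨a, m, hm, hom⟩ := Nat.exists_eq_pow_mul_and_not_dvd hx.orderOf_pos.ne' 2 (by norm_num)
  have hcop : (2 ^ a).Coprime m := ((Nat.prime_two.coprime_iff_not_dvd).2 hm).pow_left a
  obtain ⟨n, hn1, hn2⟩ := Nat.chineseRemainder hcop 1 0
  obtain ⟨c, hc⟩ := (Nat.modEq_zero_iff_dvd).1 hn2
  refine ⟨n, a, ?_, fun h2 => hm (h2.trans (orderOf_dvd_of_pow_eq_one ?_))⟩
  · rw [← pow_mul, hc, show m * c * 2 ^ a = 2 ^ a * m * c by ring, ← hom, pow_mul, pow_orderOf_eq_one, one_pow]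
  · rw [((Commute.refl x).pow_right n).inv_right.mul_pow, inv_pow, mul_inv_eq_one, ← pow_mul,
      pow_eq_pow_iff_modEq, hom]
    simpa using (hn1.symm.mul_right' m)

/-- An element of `p`-power order normalising a group of order divisible by `p` centralises a nontrivial
element of it. -/
theorem exists_fixed {l : ℕ} [hl : Fact l.Prime] {A : Subgroup G} {g : G} {i : ℕ} (hg : orderOf g = l ^ i)
    (hgA : g ∈ Subgroup.normalizer (A : Set G)) (hA : l ∣ Nat.card A) :
    ∃ z ∈ A, z ≠ 1 ∧ Commute g z := by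
  let φ : Subgroup.zpowers g →* MulAut A :=
    A.normalizerMonoidHom.comp (Subgroup.inclusion (Subgroup.zpowers_le.2 hgA))
  letI : MulAction (Subgroup.zpowers g) A :=
    { smul := fun h x => φ h x
      one_smul := fun x => by show φ 1 x = x; rw [map_one]; rfl
      mul_smul := fun h k x => by show φ (h * k) x = φ h (φ k x); rw [map_mul]; rfl }
  have hP : IsPGroup l (Subgroup.zpowers g) := isPGroup_zpowers hg
  have h1 : (1 : A) ∈ MulAction.fixedPoints (Subgroup.zpowers g) A := fun h => map_one (φ h)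
  obtain ⟨z, hz, hne⟩ := hP.exists_fixed_point_of_prime_dvd_card_of_fixed_point A hA h1
  refine ⟨z, z.2, fun e => hne (Subtype.ext e.symm), ?_⟩
  exact mul_inv_eq_iff_eq_mul.1 (congrArg Subtype.val (hz ⟨g, Subgroup.mem_zpowers g⟩))

namespace Hyp

variable (d : Hyp G p f q u v)

include d

theorem p_not_dvd_cen {y : G} (hy : Nat.card (cen y) = v ∨ 2 * Nat.card (cen y) = v) :
    ¬ p ∣ Nat.card (cen y) := fun h => d.p_not.2 (by
  rcases hy with e | e
  · exact e ▸ h
  · exact e ▸ Dvd.dvd.mul_left h 2)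

theorem cen_dvd_v {z : G} (hz : z ≠ 1) (hV : 2 ∣ orderOf z) :
    Nat.card (cen z) = v ∨ 2 * Nat.card (cen z) = v :=
  (d.cases_dvd hz Nat.prime_two (dvd_card_cen hV)).2.2
    ((show (2 : ℕ) ∣ 4 by norm_num).trans d.four_dvd_v)

theorem sylow_comm (R : Sylow p G) {a b : G} (ha : a ∈ (R : Subgroup G)) (hb : b ∈ (R : Subgroup G)) :
    a * b = b * a := by
  classical
  haveI := d.p_fact
  haveI : Fact (Nat.Prime 2) := ⟨Nat.prime_two⟩
  by_contra hab
  have hna : ¬ ∀ R : Sylow p G, ∀ a ∈ (R : Subgroup G), ∀ b ∈ (R : Subgroup G), a * b = b * a :=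
    fun h => hab (h R a ha b hb)
  clear ha hb hab
  obtain ⟨r, y, w, hr, hrp, hr2, hy, hw, hwn⟩ := d.exists_pair hna
  have hy1 : y ≠ 1 := ne_one_of_prime hr hy
  have hw1 : w ≠ 1 := ne_one_of_prime d.hp hw
  have hwq : Nat.card (cen w) = q := d.comp_p hw1 (by rw [hw])
  have hrG : r ∣ q * (u * v) := by rw [← d.hcard, ← hy]; exact orderOf_dvd_natCard y
  rcases hr.dvd_mul.1 hrG with h | h
  · exact hrp ((Nat.prime_dvd_prime_iff_eq hr d.hp).1 (hr.dvd_of_dvd_pow (d.hq ▸ h)))
  rcases hr.dvd_mul.1 h with h | h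
  · -- the component of order `u`
    have hyu := (d.cases_dvd hy1 hr (dvd_card_cen (by rw [hy]))).2.1 h
    have hd : p ∣ 2 * u := by
      rw [← d.card_normalizer_u hy1 hyu, ← hw]
      exact Subgroup.orderOf_dvd_natCard _ hwn
    exact (d.hp.dvd_mul.1 hd).elim
      (fun h2 => d.p_ne_two ((Nat.prime_dvd_prime_iff_eq d.hp Nat.prime_two).1 h2)) d.p_not.1
  have hyv := (d.cases_dvd hy1 hr (dvd_card_cen (by rw [hy]))).2.2 h
  have hpT := d.p_not_dvd_cen hyv
  set T := cen y with hT
  have hfix : ∀ x ∈ T, Commute w x → x = 1 := by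
    intro x hx hc
    by_contra hx1
    obtain ⟨s, hs, hsd⟩ := Nat.exists_prime_and_dvd (mt orderOf_eq_one_iff.1 hx1)
    exact d.not_commute_p hwq hc.symm hs
      (fun e => hpT (e ▸ hsd.trans (Subgroup.orderOf_dvd_natCard _ hx))) hsd
  have hmod : Nat.card T ≡ 1 [MOD p] := card_modEq_one hw hwn hfix
  have hnil : Group.IsNilpotent T := Grp.isNilpotent_of_fpf (p := p) (b := w)
    (by rw [← hw, pow_orderOf_eq_one]) hwn (le_bot_iff.1 fun x hx =>
      Subgroup.mem_bot.2 (hfix x hx.1 (mem_cen.1 hx.2).symm))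
  -- two-elements and elements of odd order of `T` commute
  have hcomm2 : ∀ {x z : G}, x ∈ T → z ∈ T → ∀ {a : ℕ}, x ^ 2 ^ a = 1 → ¬ 2 ∣ orderOf z → Commute x z := by
    intro x z hx hz a ha ho
    refine (mem_cen.1 (mem_of_primary (cen x) (g := z) fun j l k hl hlk => ?_)).symm
    haveI : Fact l.Prime := ⟨hl⟩
    rcases k with _ | k
    · rw [orderOf_eq_one_iff.1 (hlk.trans (pow_zero l))]; exact one_mem _
    have hl2 : l ≠ 2 := by
      rintro rfl
      exact ho ((hlk ▸ dvd_pow_self 2 k.succ_ne_zero).trans (orderOf_pow_dvd j))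
    refine mem_cen.2 (Commute.symm ?_)
    exact congrArg Subtype.val (Grp.commute_of_nilpotent_coprime hnil (Ne.symm hl2)
      (x := (⟨x, hx⟩ : T)) (y := ⟨z ^ j, pow_mem hz j⟩) (i := a) (j := k + 1)
      (Subtype.ext ha) (Subtype.ext (by
        show (z ^ j) ^ l ^ (k + 1) = 1
        rw [← hlk, pow_orderOf_eq_one])))
  obtain ⟨P2⟩ : Nonempty (Sylow 2 T) := inferInstance
  haveI hP2n : (P2 : Subgroup T).Normal := Grp.isNilpotent_iff_sylow_normal.mp hnil 2 inferInstance P2
  set T2 : Subgroup G := (P2 : Subgroup T).map T.subtype with hT2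
  have hT2T : T2 ≤ T := Subgroup.map_subtype_le _
  have hT2p : IsPGroup 2 T2 := P2.isPGroup'.map _
  have hmemT2 : ∀ {x : G}, x ∈ T → ∀ {a : ℕ}, x ^ 2 ^ a = 1 → x ∈ T2 := by
    intro x hx a ha
    obtain ⟨k, -, hk⟩ := (Nat.dvd_prime_pow Nat.prime_two).1
      (orderOf_dvd_of_pow_eq_one (show (⟨x, hx⟩ : T) ^ 2 ^ a = 1 from Subtype.ext ha))
    obtain ⟨E, hE⟩ := exists_sylow_mem hk
    haveI := Sylow.unique_of_normal P2 hP2n
    rw [Subsingleton.elim E P2] at hE
    exact ⟨⟨x, hx⟩, hE, rfl⟩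
  have hcentral : ∀ {z : G}, z ∈ T2 → (∀ x ∈ T2, Commute z x) → T ≤ cen z := by
    intro z hz hzc g hg
    obtain ⟨n, a, hn, ho⟩ := exists_two_odd_split (isOfFinOrder_of_finite g)
    obtain ⟨i, hi⟩ := exists_pow_of_mem hT2p hz
    have h1 : Commute z (g * (g ^ n)⁻¹) := hcomm2 (hT2T hz) (mul_mem hg (inv_mem (pow_mem hg n))) (a := i)
      (by rw [← hi, pow_orderOf_eq_one]) ho
    have h2 : Commute z (g ^ n) := hzc _ (hmemT2 (pow_mem hg n) hn)
    refine mem_cen.2 (Commute.symm ?_)
    have h3 := h1.mul_right h2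
    rwa [inv_mul_cancel_right] at h3
  have h2T : 2 ∣ Nat.card T := by
    have h4 := d.four_dvd_v
    rcases hyv with e | e <;> omega
  have h2T2 : 2 ∣ Nat.card T2 := by
    rw [hT2, Subgroup.card_map_of_injective T.subtype_injective]
    exact P2.dvd_card_of_dvd_card h2T
  set W : Subgroup G := (Subgroup.center T2).map T2.subtype with hW
  have hWT2 : W ≤ T2 := Subgroup.map_subtype_le _
  have hWc : ∀ z ∈ W, ∀ x ∈ T2, Commute z x := by
    rintro _ ⟨z, hz, rfl⟩ x hx
    exact (congrArg Subtype.val (Subgroup.mem_center_iff.1 hz ⟨x, hx⟩)).symm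
  haveI : Nontrivial T2 := by
    rw [← Finite.one_lt_card_iff_nontrivial]
    exact Nat.lt_of_lt_of_le one_lt_two (Nat.le_of_dvd Nat.card_pos h2T2)
  have h2W : 2 ∣ Nat.card W := by
    rw [hW, Subgroup.card_map_of_injective T2.subtype_injective]
    haveI := hT2p.center_nontrivial
    obtain ⟨k, hk⟩ := IsPGroup.iff_card.1 (hT2p.to_subgroup (Subgroup.center T2))
    rcases k with _ | k
    · rw [pow_zero] at hk
      exact absurd (Finite.one_lt_card_iff_nontrivial.2 inferInstance) (by rw [hk]; exact lt_irrefl 1)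
    · exact hk ▸ dvd_pow_self 2 k.succ_ne_zero
  have hordW : ∀ z ∈ W, z ≠ 1 → 2 ∣ orderOf z := fun z hz hz1 => by
    obtain ⟨i, hi⟩ := exists_pow_of_mem hT2p (hWT2 hz)
    rcases i with _ | i
    · exact absurd (orderOf_eq_one_iff.1 (hi.trans (pow_zero 2))) hz1
    · exact hi ▸ dvd_pow_self 2 i.succ_ne_zero
  rcases hyv with hTv | hTv
  · -- the centraliser has order `v`
    obtain ⟨hq1, hq2⟩ : q = 2 * u + 1 ∧ v = q + 1 := by
      rcases d.rel with ⟨h1, h2⟩ | hh
      · exfalso
        rw [hTv] at hmod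
        have h3 : v + 1 ≡ 2 [MOD p] := hmod.add_right 1
        rw [h2] at h3
        have h4 : (0 : ℕ) ≡ 2 [MOD p] := ((Nat.modEq_zero_iff_dvd).2 d.p_dvd_q).symm.trans h3
        exact d.p_ne_two ((Nat.prime_dvd_prime_iff_eq d.hp Nat.prime_two).1
          (Nat.modEq_zero_iff_dvd.1 h4.symm))
      · exact hh
    obtain ⟨⟨z, hzW⟩, hz⟩ := exists_prime_orderOf_dvd_card' (G := W) 2 h2W
    rw [Subgroup.orderOf_mk] at hz
    have hzT : z ∈ T := hT2T (hWT2 hzW)
    have hz1 : z ≠ 1 := ne_one_of_prime Nat.prime_two hz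
    have hcz : T = cen z := Subgroup.eq_of_le_of_card_ge (hcentral (hWT2 hzW) (hWc z hzW)) (by
      rcases d.cen_dvd_v hz1 (by rw [hz]) with e | e <;> omega)
    -- centralisers of two-elements and odd elements
    have hidx : ∀ {x : G}, Commute x z → x * z ≠ 1 → 2 ∣ orderOf (x * z) → cen (x * z) ≤ T →
        (cen (x * z)).relIndex T ≤ 2 := by
      intro x _ hne h2 hle
      have h1 := (cen (x * z)).card_mul_index
      have h3 : Nat.card (cen (x * z)) * (cen (x * z)).relIndex T = Nat.card T := by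
        rw [← Subgroup.relIndex_bot_left (cen (x * z)), Subgroup.relIndex_mul_relIndex _ _ _ bot_le hle,
          Subgroup.relIndex_bot_left]
      rcases d.cen_dvd_v hne h2 with e | e <;> rw [hTv] at h3 <;> nlinarith [Nat.card_pos (α := cen (x * z))]
    have hoddc : ∀ {x : G}, x ∈ T → ¬ 2 ∣ orderOf x → T ≤ cen x := by
      intro x hx ho
      have hxz : Commute x z := mem_cen.1 (hcz ▸ hx)
      have hco : (orderOf x).Coprime (orderOf z) := by
        rw [hz]; exact ((Nat.prime_two.coprime_iff_not_dvd).2 ho).symm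
      have hne : x * z ≠ 1 := fun e => by
        have h1 : orderOf (x * z) = orderOf x * orderOf z := hxz.orderOf_mul_eq_mul_orderOf_of_coprime hco
        rw [e, orderOf_one, hz] at h1
        omega
      have h2 : 2 ∣ orderOf (x * z) := by
        rw [hxz.orderOf_mul_eq_mul_orderOf_of_coprime hco, hz]; exact dvd_mul_left 2 _
      have hle : cen (x * z) ≤ T := hcz ▸ cen_mul_le' hxz hco
      intro g hg
      obtain ⟨n, a, hn, hon⟩ := exists_two_odd_split (isOfFinOrder_of_finite g)
      refine mem_cen.2 (Commute.symm ?_)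
      have e1 : Commute x (g * (g ^ n)⁻¹) := (mem_cen.1 (cen_mul_le hxz hco
        (mem_of_odd (hidx hxz hne h2 hle) (mul_mem hg (inv_mem (pow_mem hg n))) hon))).symm
      have e2 : Commute x (g ^ n) := (hcomm2 (pow_mem hg n) hx hn ho).symm
      have h3 := e1.mul_right e2
      rwa [inv_mul_cancel_right] at h3
    have hsmall : ∀ x ∈ T, ∃ C : Subgroup G, C.relIndex T ≤ 2 ∧ ∀ g ∈ C, g ∈ T → Commute g x := by
      intro x hx
      obtain ⟨n, a, hn, ho⟩ := exists_two_odd_split (isOfFinOrder_of_finite x)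
      have hxy : Commute (x ^ n) y := mem_cen.1 (pow_mem hx n)
      have hyo : ¬ 2 ∣ orderOf y := by
        rw [hy]; exact fun h => hr2 ((Nat.prime_dvd_prime_iff_eq Nat.prime_two hr).1 h).symm
      have hco : (orderOf (x ^ n)).Coprime (orderOf y) :=
        Nat.Coprime.coprime_dvd_left (orderOf_dvd_of_pow_eq_one hn)
          (((Nat.prime_two.coprime_iff_not_dvd).2 hyo).pow_left a)
      have hle : cen (x ^ n * y) ≤ T := cen_mul_le' hxy hco
      refine ⟨cen (x ^ n * y), ?_, fun g hg hgT => ?_⟩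
      · have hne : x ^ n * y ≠ 1 := fun e => by
          have h1 : orderOf (x ^ n * y) = orderOf (x ^ n) * orderOf y :=
            hxy.orderOf_mul_eq_mul_orderOf_of_coprime hco
          rw [e, orderOf_one, hy] at h1
          exact hr.ne_one (Nat.eq_one_of_mul_eq_one_left h1.symm)
        have hd : r ∣ orderOf (x ^ n * y) := by
          rw [hxy.orderOf_mul_eq_mul_orderOf_of_coprime hco, hy]; exact dvd_mul_left r _
        have h3 : Nat.card (cen (x ^ n * y)) * (cen (x ^ n * y)).relIndex T = Nat.card T := by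
          rw [← Subgroup.relIndex_bot_left (cen (x ^ n * y)), Subgroup.relIndex_mul_relIndex _ _ _ bot_le hle,
            Subgroup.relIndex_bot_left]
        rcases (d.cases_dvd hne hr (dvd_card_cen hd)).2.2 h with e | e <;> rw [hTv] at h3 <;>
          nlinarith [Nat.card_pos (α := cen (x ^ n * y))]
      · have e1 : Commute g (x ^ n) := mem_cen.1 (cen_mul_le hxy hco hg)
        have e2 : Commute g (x * (x ^ n)⁻¹) :=
          mem_cen.1 (hoddc (mul_mem hx (inv_mem (pow_mem hx n))) ho hgT)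
        have h3 := e2.mul_right e1
        rwa [inv_mul_cancel_right] at h3
    have hsz : ∀ x ∈ T, ∀ g ∈ T, ∀ k ∈ T, ¬ Commute g x → ¬ Commute k x → g * x * g⁻¹ = k * x * k⁻¹ := by
      intro x hx g hg k hk hgx hkx
      obtain ⟨C, hC, hCx⟩ := hsmall x hx
      have hgC : g ∉ C := fun h => hgx (hCx g h hg)
      have hkC : k ∉ C := fun h => hkx (hCx k h hk)
      have hC2 : C.relIndex T = 2 := by
        have h0 : C.relIndex T ≠ 0 := Subgroup.index_ne_zero_of_finite
        have h1 : C.relIndex T ≠ 1 := fun e => hgC (Subgroup.relIndex_eq_one.1 e hg)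
        omega
      have hm := (Subgroup.mul_mem_iff_of_index_two hC2 (a := ⟨k⁻¹, inv_mem hk⟩) (b := ⟨g, hg⟩)).2
        (iff_of_false (fun h => hkC (by simpa using (Subgroup.mem_subgroupOf.1 h)))
          (fun h => hgC (Subgroup.mem_subgroupOf.1 h)))
      have hc : Commute (k⁻¹ * g) x := hCx _ (Subgroup.mem_subgroupOf.1 hm) (mul_mem (inv_mem hk) hg)
      calc g * x * g⁻¹ = k * ((k⁻¹ * g) * x * (k⁻¹ * g)⁻¹) * k⁻¹ := by group
        _ = k * x * k⁻¹ := by rw [hc.eq, mul_inv_cancel_right]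
    have hTab : ∀ g ∈ T, ∀ x ∈ T, Commute g x := by
      by_contra hcon
      push Not at hcon
      obtain ⟨g, hg, x, hx, hgx⟩ := hcon
      have hcT : g * x * g⁻¹ * x⁻¹ ∈ T := mul_mem (mul_mem (mul_mem hg hx) (inv_mem hg)) (inv_mem hx)
      have hwg := conj_mem_of_normalizer hwn hg
      have hwx := conj_mem_of_normalizer hwn hx
      have hwgx : ¬ Commute (w * g * w⁻¹) (w * x * w⁻¹) := fun h => hgx ((Commute.conj_iff w).1 h)
      have e := commutator_eq hsz hwg hwx hg hx hwgx hgx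
      have hc : Commute w (g * x * g⁻¹ * x⁻¹) := by
        refine mul_inv_eq_iff_eq_mul.1 (Eq.trans ?_ e)
        group
      have h1 := hfix _ hcT hc
      exact hgx (mul_inv_eq_iff_eq_mul.1 (mul_inv_eq_one.1 h1))
    have hcenT : ∀ x ∈ T, x ≠ 1 → cen x = T := by
      intro x hx hx1
      refine (Subgroup.eq_of_le_of_card_ge (fun g hg => mem_cen.2 (hTab g hg x hx)) ?_).symm
      obtain ⟨s, hs, hsd⟩ := Nat.exists_prime_and_dvd (mt orderOf_eq_one_iff.1 hx1)
      have hsv : s ∣ v := hTv ▸ hsd.trans (Subgroup.orderOf_dvd_natCard _ hx)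
      rcases (d.cases_dvd hx1 hs (dvd_card_cen hsd)).2.2 hsv with e | e <;> omega
    have hTI : ∀ g x : G, x ∈ T → x ≠ 1 → g * x * g⁻¹ ∈ T → g ∈ Subgroup.normalizer (T : Set G) := by
      intro g x hx hx1 hgx
      have h1 := hcenT x hx hx1
      have h2 := hcenT _ hgx (fun e => hx1 (conj_eq_one_iff.1 e))
      rw [Subgroup.mem_normalizer_iff]
      intro e
      constructor <;> intro he
      · rw [← h2]; exact conj_mem_cen.2 (h1 ▸ he)
      · rw [← h1]; exact conj_mem_cen.1 (h2 ▸ he)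
    have hTidx : ¬ 2 ∣ T.index := fun h2 => by
      have h1 := T.card_mul_index
      rw [hTv, d.hcard, show q * (u * v) = v * (q * u) by ring] at h1
      rw [Nat.eq_of_mul_eq_mul_left d.v_pos h1] at h2
      exact (Nat.prime_two.dvd_mul.1 h2).elim d.q_odd d.uodd
    have hT2idx : ¬ 2 ∣ T2.index := fun h2 => by
      rw [← Subgroup.relIndex_mul_index hT2T] at h2
      refine (Nat.prime_two.dvd_mul.1 h2).elim ?_ hTidx
      have : T2.relIndex T = (P2 : Subgroup T).index := by
        rw [Subgroup.relIndex, hT2, Subgroup.subgroupOf, Subgroup.comap_map_eq_self_of_injective T.subtype_injective]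
      rw [this]
      exact P2.not_dvd_index
    let S : Sylow 2 G := hT2p.toSylow hT2idx
    have hcov : ∀ b : G, b ∈ d.VS ↔ ∃ g x : G, x ∈ T ∧ x ≠ 1 ∧ g * x * g⁻¹ = b := by
      intro b
      constructor
      · intro hb
        have h2b : 2 ∣ Nat.card (cen b) := by
          have := d.four_dvd_v
          rcases hb.2 with e | e <;> omega
        obtain ⟨⟨i, hib⟩, hi⟩ := exists_prime_orderOf_dvd_card' (G := cen b) 2 h2b
        rw [Subgroup.orderOf_mk] at hi
        obtain ⟨g, hg⟩ := exists_conj_mem_sylow S (i := 1) (by rw [hi, pow_one])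
        have hiT : g * i * g⁻¹ ∈ T := hT2T (by rwa [IsPGroup.toSylow_coe] at hg)
        have hbT : g * b * g⁻¹ ∈ T := by
          rw [← hcenT _ hiT (fun e => ne_one_of_prime Nat.prime_two hi (conj_eq_one_iff.1 e))]
          exact conj_mem_cen.2 (mem_cen.2 (mem_cen.1 hib).symm)
        exact ⟨g⁻¹, g * b * g⁻¹, hbT, fun e => hb.1 (conj_eq_one_iff.1 e), by group⟩
      · rintro ⟨g, x, hx, hx1, rfl⟩
        refine ⟨fun e => hx1 (conj_eq_one_iff.1 e), Or.inl ?_⟩
        rw [← cen_card_conj (isConj_iff.2 ⟨g, rfl⟩), hcenT x hx hx1, hTv]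
    obtain ⟨-, -, ⟨k, hk, hku⟩⟩ := d.counts
    have hcount := ncard_TI T d.VS hTI hcov
    rw [hk, hku hq1, d.hcard, hTv, show v - 1 = q by omega] at hcount
    have hu3 := d.u3
    have hqu : 0 < q * u := Nat.mul_pos (by have := d.q7; omega) (by omega)
    have hdvd : u ∣ v * q := by
      refine ⟨Nat.card (Subgroup.normalizer (T : Set G)), Nat.eq_of_mul_eq_mul_left hqu ?_⟩
      linarith [hcount]
    have := Nat.eq_one_of_dvd_coprimes (Nat.Coprime.mul_right d.cuv d.cqu.symm) dvd_rfl hdvd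
    omega
  · -- the centraliser has order `v / 2`
    obtain ⟨S, hS⟩ := hT2p.exists_le_sylow
    have hlt : T2 < (S : Subgroup G) := by
      refine lt_of_le_of_ne hS fun e => ?_
      have h1 : Nat.card (S : Subgroup G) ∣ Nat.card T := e ▸ Subgroup.card_dvd_of_le hT2T
      obtain ⟨c, hc⟩ := h1
      have h2 := (S : Subgroup G).card_mul_index
      rw [d.hcard, show v = 2 * (Nat.card (S : Subgroup G) * c) by rw [← hc]; exact hTv.symm,
        show q * (u * (2 * (Nat.card (S : Subgroup G) * c))) =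
          Nat.card (S : Subgroup G) * (2 * (q * u * c)) by ring] at h2
      exact S.not_dvd_index ⟨q * u * c, Nat.eq_of_mul_eq_mul_left Nat.card_pos h2⟩
    haveI := S.isPGroup'.isNilpotent
    have hsub : T2.subgroupOf (S : Subgroup G) < ⊤ :=
      lt_top_iff_ne_top.2 fun e => not_le_of_gt hlt (Subgroup.subgroupOf_eq_top.1 e)
    obtain ⟨g, hg, hgT2⟩ := SetLike.exists_of_lt (normalizerCondition_of_isNilpotent _ hsub)
    rw [Subgroup.mem_normalizer_iff] at hg
    obtain ⟨i, hi⟩ := exists_pow_of_mem S.isPGroup' g.2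
    have hgN : (g : G) ∈ Subgroup.normalizer (T2 : Set G) := by
      rw [Subgroup.mem_normalizer_iff]
      intro x
      constructor
      · intro hx
        exact (hg ⟨x, hS hx⟩).1 hx
      · intro hx
        have hxS : x ∈ (S : Subgroup G) := by
          have h2 := mul_mem (mul_mem (inv_mem g.2) (hS hx)) g.2
          rwa [show (g : G)⁻¹ * ((g : G) * x * (g : G)⁻¹) * (g : G) = x by group] at h2
        exact (hg ⟨x, hxS⟩).2 hx
    have hgW : (g : G) ∈ Subgroup.normalizer (W : Set G) := by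
      have hkey : ∀ h ∈ Subgroup.normalizer (T2 : Set G), ∀ z ∈ W, h * z * h⁻¹ ∈ W := by
        intro h hh z hz
        refine ⟨⟨_, conj_mem_of_normalizer hh (hWT2 hz)⟩, Subgroup.mem_center_iff.2 fun x => Subtype.ext ?_, rfl⟩
        have hx : h⁻¹ * (x : G) * h ∈ T2 := by
          have h1 := conj_mem_of_normalizer (inv_mem hh) x.2
          rwa [inv_inv] at h1
        show (x : G) * (h * z * h⁻¹) = h * z * h⁻¹ * x
        calc (x : G) * (h * z * h⁻¹) = h * ((h⁻¹ * (x : G) * h) * z) * h⁻¹ := by group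
          _ = h * (z * (h⁻¹ * (x : G) * h)) * h⁻¹ := by rw [(hWc z hz _ hx).eq]
          _ = _ := by group
      rw [Subgroup.mem_normalizer_iff]
      refine fun z => ⟨hkey _ hgN z, fun hz => ?_⟩
      have h1 := hkey _ (inv_mem hgN) _ hz
      rwa [show (g : G)⁻¹ * ((g : G) * z * (g : G)⁻¹) * ((g : G)⁻¹)⁻¹ = z by group] at h1
    obtain ⟨z, hzW, hz1, hgz⟩ := exists_fixed hi hgW h2W
    have hle : T ≤ cen z := hcentral (hWT2 hzW) (hWc z hzW)
    have hgT : (g : G) ∉ T := fun hc => hgT2 (Subgroup.mem_subgroupOf.2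
      (hmemT2 hc (a := i) (by rw [← hi, pow_orderOf_eq_one])))
    have hlt' : Nat.card T < Nat.card (cen z) := Set.Finite.card_lt_card (Set.toFinite _)
      (SetLike.coe_ssubset_coe.2 (lt_of_le_of_ne hle fun e => hgT (e ▸ mem_cen.2 hgz)))
    have hczv : Nat.card (cen z) = v := by
      rcases d.cen_dvd_v hz1 (hordW z hzW hz1) with e | e <;> omega
    have hrel : T.relIndex (cen z) = 2 := by
      have h3 : Nat.card T * T.relIndex (cen z) = Nat.card (cen z) := by
        rw [← Subgroup.relIndex_bot_left T, Subgroup.relIndex_mul_relIndex _ _ _ bot_le hle,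
          Subgroup.relIndex_bot_left]
      rw [hczv, ← hTv, mul_comm 2] at h3
      exact Nat.eq_of_mul_eq_mul_left Nat.card_pos h3
    haveI : (T.subgroupOf (cen z)).Normal := Subgroup.normal_of_index_eq_two hrel
    set X := Subgroup.normalizer (T : Set G) with hX
    have hzX : cen z ≤ X := Subgroup.normal_subgroupOf_iff_le_normalizer hle |>.1 inferInstance
    have hTX : T ≤ X := Subgroup.le_normalizer
    haveI hTn : (T.subgroupOf X).Normal := Subgroup.normal_subgroupOf_of_le_normalizer le_rfl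
    have hcardq : Nat.card (X ⧸ T.subgroupOf X) = T.relIndex X := (Subgroup.index_eq_card _).symm
    have h2q : 2 ∣ T.relIndex X := ⟨(cen z).relIndex X, by
      rw [← hrel, Subgroup.relIndex_mul_relIndex _ _ _ hle hzX]⟩
    have h4q : ¬ 4 ∣ T.relIndex X := by
      rintro ⟨c, hc⟩
      have h3 : Nat.card T * T.relIndex X = Nat.card X := by
        rw [← Subgroup.relIndex_bot_left T, Subgroup.relIndex_mul_relIndex _ _ _ bot_le hTX,
          Subgroup.relIndex_bot_left]
      obtain ⟨k, hk⟩ := X.card_subgroup_dvd_card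
      rw [d.hcard, ← h3, hc, ← hTv] at hk
      have h5 : q * u * (2 * Nat.card T) = 2 * (c * k) * (2 * Nat.card T) := by linarith
      have h6 := Nat.eq_of_mul_eq_mul_right (by have := Nat.card_pos (α := T); omega) h5
      exact (Nat.prime_two.dvd_mul.1 ⟨c * k, h6⟩).elim d.q_odd d.uodd
    haveI := Fintype.ofFinite (X ⧸ T.subgroupOf X)
    obtain ⟨O, -, -, hOcard, hOmem⟩ := Cfsg.Agent.Block.ConstFour.odd_half
      (⊤ : Subgroup (X ⧸ T.subgroupOf X))
      (by rw [Subgroup.card_top, hcardq]; exact h2q) (by rw [Subgroup.card_top, hcardq]; exact h4q)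
    haveI hOn : O.Normal := ⟨fun x hx k => (hOmem _ trivial).2 (by
      rw [orderOf_conj']; exact (hOmem x trivial).1 hx)⟩
    set M : Subgroup X := O.comap (QuotientGroup.mk' (T.subgroupOf X)) with hM
    haveI hMn : M.Normal := Subgroup.Normal.comap hOn _
    have hMi : M.index = 2 := by
      rw [hM, Subgroup.index_comap_of_surjective O (QuotientGroup.mk'_surjective _)]
      have h1 := O.card_mul_index
      rw [← Subgroup.card_top (G := X ⧸ T.subgroupOf X), hOcard, mul_comm 2] at h1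
      exact Nat.eq_of_mul_eq_mul_left Nat.card_pos h1
    have hwM : (⟨w, hwn⟩ : X) ∈ M := by
      rw [hM, Subgroup.mem_comap]
      refine (hOmem _ trivial).2 (Odd.of_dvd_nat (d.hp.odd_of_ne_two d.p_ne_two) ?_)
      refine orderOf_dvd_of_pow_eq_one ?_
      rw [← map_pow, show (⟨w, hwn⟩ : X) ^ p = 1 from Subtype.ext (by
        show w ^ p = 1
        rw [← hw, pow_orderOf_eq_one]), map_one]
    obtain ⟨P⟩ : Nonempty (Sylow p M) := inferInstance
    have hpM : p ∣ Nat.card M := by
      refine dvd_trans ?_ (Subgroup.orderOf_dvd_natCard M hwM)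
      rw [Subgroup.orderOf_mk, hw]
    set P' : Subgroup X := (P : Subgroup M).map M.subtype with hP'
    have h2N : 2 ∣ Nat.card (Subgroup.normalizer (P' : Set X)) := by
      rw [← hMi, ← Subgroup.relIndex_top_right M, ← Sylow.normalizer_sup_eq_top P, Subgroup.relIndex_sup_right]
      exact Subgroup.relIndex_dvd_card _ _
    obtain ⟨⟨s, hsn⟩, hs⟩ := exists_prime_orderOf_dvd_card' 2 h2N
    rw [Subgroup.orderOf_mk] at hs
    have hP'1 : P'.map X.subtype ≠ ⊥ := fun e => by
      have h1 := P.dvd_card_of_dvd_card hpM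
      rw [Subgroup.map_eq_bot_iff_of_injective _ X.subtype_injective, hP',
        Subgroup.map_eq_bot_iff_of_injective _ M.subtype_injective] at e
      rw [e, Subgroup.card_bot, Nat.dvd_one] at h1
      exact d.hp.ne_one h1
    refine d.no_invol hna ((P.isPGroup'.map _).map _) hP'1 (s := (s : G))
      (by rw [Subgroup.orderOf_coe, hs]) ?_
    exact Subgroup.le_normalizer_map X.subtype ⟨s, hsn, rfl⟩

end Hyp

end Cfsg.Agent.Transfer.SizesPSL
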