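import Cfsg.Agent.Lib.Transfer.SizesPSL.Sizes

/-!
The centralisers in the quotient by the centre.
-/

set_option autoImplicit false
set_option maxHeartbeats 1000000

open scoped Pointwise

universe w

namespace Cfsg.Agent.Transfer.SizesPSL

open Cfsg Cfsg.Agent Cfsg.Agent.Transfer.ClassDisconnected Cfsg.Agent.Transfer.ClassThree

variable {G : Type w} [Group G] [Finite G]

/-- The preimage of the centraliser of the image of `x` modulo the centre. -/
noncomputable abbrev pre (x : G) : Subgroup G :=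
  (cen (QuotientGroup.mk' (Subgroup.center G) x)).comap (QuotientGroup.mk' (Subgroup.center G))

theorem mem_pre {x g : G} : g ∈ pre x ↔ g * x * g⁻¹ * x⁻¹ ∈ Subgroup.center G := by
  rw [Subgroup.mem_comap, mem_cen, ← (QuotientGroup.eq_one_iff (g * x * g⁻¹ * x⁻¹))]
  show _ ↔ QuotientGroup.mk' (Subgroup.center G) (g * x * g⁻¹ * x⁻¹) = 1
  rw [map_mul, map_mul, map_mul, map_inv, map_inv, mul_inv_eq_one, mul_inv_eq_iff_eq_mul]
  exact Iff.rfl

theorem cen_le_pre (x : G) : cen x ≤ pre x := fun g hg => by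
  rw [mem_pre, (mem_cen.1 hg).eq, mul_inv_cancel_right, mul_inv_cancel]
  exact one_mem _

theorem card_cen_quot (x : G) :
    Nat.card (cen (QuotientGroup.mk' (Subgroup.center G) x)) = cb x * (cen x).relIndex (pre x) := by
  set π := QuotientGroup.mk' (Subgroup.center G) with hπ
  have hpre : (Subgroup.center G).relIndex (pre x) = Nat.card (cen (π x)) := by
    have h := Subgroup.relIndex_comap (⊥ : Subgroup (G ⧸ Subgroup.center G)) π (pre x)
    rw [MonoidHom.comap_bot, hπ, QuotientGroup.ker_mk', Subgroup.relIndex_bot_left] at h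
    rw [h, Subgroup.map_comap_eq_self_of_surjective (QuotientGroup.mk'_surjective _)]
  rw [← hpre, ← Subgroup.relIndex_mul_relIndex _ _ _ (center_le_cen x) (cen_le_pre x)]

theorem relIndex_pre_dvd_cix (x : G) : (cen x).relIndex (pre x) ∣ cix x :=
  ⟨(pre x).index, (Subgroup.relIndex_mul_index (cen_le_pre x)).symm⟩

/-- The deficiency homomorphism. -/
noncomputable def defect (x : G) : pre x →* Subgroup.center G where
  toFun g := ⟨(g : G) * x * (g : G)⁻¹ * x⁻¹, mem_pre.1 g.2⟩
  map_one' := Subtype.ext (by simp)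
  map_mul' g h := by
    refine Subtype.ext ?_
    simp only [Subgroup.coe_mul]
    have hz := Subgroup.mem_center_iff.1 (mem_pre.1 h.2) ((g : G))
    calc (g : G) * h * x * ((g : G) * h)⁻¹ * x⁻¹
        = (g : G) * ((h : G) * x * (h : G)⁻¹ * x⁻¹) * x * (g : G)⁻¹ * x⁻¹ := by group
      _ = ((h : G) * x * (h : G)⁻¹ * x⁻¹) * (g : G) * x * (g : G)⁻¹ * x⁻¹ := by rw [hz]
      _ = ((h : G) * x * (h : G)⁻¹ * x⁻¹) * ((g : G) * x * (g : G)⁻¹ * x⁻¹) := by group
      _ = ((g : G) * x * (g : G)⁻¹ * x⁻¹) * ((h : G) * x * (h : G)⁻¹ * x⁻¹) := by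
        rw [Subgroup.mem_center_iff.1 (mem_pre.1 h.2) _]

theorem ker_defect (x : G) : (defect x).ker = (cen x).subgroupOf (pre x) := by
  ext g
  rw [MonoidHom.mem_ker, Subgroup.mem_subgroupOf, mem_cen, ← Subtype.coe_inj]
  show (g : G) * x * (g : G)⁻¹ * x⁻¹ = 1 ↔ _
  rw [mul_inv_eq_one, mul_inv_eq_iff_eq_mul]
  exact Iff.rfl

theorem card_range_defect (x : G) : Nat.card (defect x).range = (cen x).relIndex (pre x) := by
  rw [Subgroup.relIndex, ← ker_defect, Subgroup.index_ker]

/-- Elements of the image of the deficiency homomorphism are killed by the order modulo the centre. -/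
theorem pow_defect (x g : G) (hg : g ∈ pre x) :
    (g * x * g⁻¹ * x⁻¹) ^ orderOf (QuotientGroup.mk' (Subgroup.center G) x) = 1 := by
  set o := orderOf (QuotientGroup.mk' (Subgroup.center G) x)
  set w := g * x * g⁻¹ * x⁻¹ with hw
  have hxo : x ^ o ∈ Subgroup.center G := by
    rw [← QuotientGroup.eq_one_iff]
    show QuotientGroup.mk' (Subgroup.center G) (x ^ o) = 1
    rw [map_pow, pow_orderOf_eq_one]
  have hc : Commute w x := (Subgroup.mem_center_iff.1 (mem_pre.1 hg) x).symm
  have h1 : (g * x * g⁻¹) ^ o = w ^ o * x ^ o := by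
    rw [← hc.mul_pow, hw, inv_mul_cancel_right]
  rw [conj_pow, Subgroup.mem_center_iff.1 hxo g, mul_inv_cancel_right] at h1
  exact mul_eq_right.1 h1.symm

theorem prime_dvd_relIndex {x : G} {r : ℕ} (hr : r.Prime) (h : r ∣ (cen x).relIndex (pre x)) :
    r ∣ orderOf (QuotientGroup.mk' (Subgroup.center G) x) := by
  haveI : Fact r.Prime := ⟨hr⟩
  rw [← card_range_defect] at h
  obtain ⟨w, hw⟩ := exists_prime_orderOf_dvd_card' r h
  obtain ⟨g, hg⟩ := w.2
  rw [← hw, ← Subgroup.orderOf_coe, ← Subgroup.orderOf_coe]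
  refine orderOf_dvd_of_pow_eq_one ?_
  rw [← hg]
  exact pow_defect x g g.2

theorem orderOf_quot_dvd (x : G) : orderOf (QuotientGroup.mk' (Subgroup.center G) x) ∣ cb x := by
  have h1 := Subgroup.relIndex_comap (⊥ : Subgroup (G ⧸ Subgroup.center G))
    (QuotientGroup.mk' (Subgroup.center G)) (cen x)
  rw [MonoidHom.comap_bot, QuotientGroup.ker_mk', Subgroup.relIndex_bot_left] at h1
  rw [cb, h1]
  exact Subgroup.orderOf_dvd_natCard _ (Subgroup.mem_map_of_mem _ (self_mem_cen x))

/-- An element commuting with `x` modulo the centre commutes with it when the orders are coprime. -/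
theorem commute_of_coprime {x g : G} (hg : g * x * g⁻¹ * x⁻¹ ∈ Subgroup.center G)
    (h : (orderOf (QuotientGroup.mk' (Subgroup.center G) x)).Coprime (cix x)) : Commute g x := by
  have h1 : (cen x).relIndex (pre x) = 1 := by
    by_contra hne
    obtain ⟨r, hr, hrd⟩ := Nat.exists_prime_and_dvd hne
    exact hr.ne_one (Nat.eq_one_of_dvd_coprimes h (prime_dvd_relIndex hr hrd)
      (hrd.trans (relIndex_pre_dvd_cix x)))
  exact mem_cen.1 (Subgroup.relIndex_eq_one.1 h1 (mem_pre.2 hg))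

theorem card_cen_quot_eq {x : G} (h : (cb x).Coprime (cix x)) :
    Nat.card (cen (QuotientGroup.mk' (Subgroup.center G) x)) = cb x := by
  rw [card_cen_quot]
  have h1 : (cen x).relIndex (pre x) = 1 := by
    by_contra hne
    obtain ⟨r, hr, hrd⟩ := Nat.exists_prime_and_dvd hne
    exact hr.ne_one (Nat.eq_one_of_dvd_coprimes h ((prime_dvd_relIndex hr hrd).trans (orderOf_quot_dvd x))
      (hrd.trans (relIndex_pre_dvd_cix x)))
  rw [h1, mul_one]

namespace Sizes

variable {q u v : ℕ}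

theorem cb_cases (h : Sizes G q u v) {x : G} (hx : x ∉ Subgroup.center G) :
    (cb x = q ∧ cix x = u * v) ∨ (cb x = u ∧ cix x = q * v) ∨ (cb x = v ∧ cix x = q * u) ∨
      (2 * cb x = v ∧ cix x = 2 * (q * u) ∧ 2 ∣ v) := by
  have h1 := cb_mul_cix x
  rw [h.index_center] at h1
  have hpos : ∀ {n : ℕ}, cix x = n → n ≠ 0 := fun e => e ▸ (cix_pos x).ne'
  rcases h.sizes x hx with e | e | e | ⟨e, h2⟩ <;> have hp := hpos e <;> rw [e] at h1
  · exact Or.inl ⟨Nat.eq_of_mul_eq_mul_right (Nat.pos_of_ne_zero hp) h1, e⟩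
  · exact Or.inr (Or.inl ⟨Nat.eq_of_mul_eq_mul_right (Nat.pos_of_ne_zero hp) (h1.trans (by ring)), e⟩)
  · exact Or.inr (Or.inr (Or.inl ⟨Nat.eq_of_mul_eq_mul_right (Nat.pos_of_ne_zero hp) (h1.trans (by ring)), e⟩))
  · refine Or.inr (Or.inr (Or.inr ⟨?_, e, h2⟩))
    have hp' : q * u ≠ 0 := fun e' => hp (by rw [e', mul_zero])
    exact Nat.eq_of_mul_eq_mul_right (Nat.pos_of_ne_zero hp') (by linarith)

/-- The centraliser orders in the quotient by the centre. -/
theorem quot_cen (h : Sizes G q u v) (a : G ⧸ Subgroup.center G) (ha : a ≠ 1) :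
    Nat.card (cen a) = q ∨ Nat.card (cen a) = u ∨ Nat.card (cen a) = v ∨ 2 * Nat.card (cen a) = v := by
  obtain ⟨x, rfl⟩ := QuotientGroup.mk'_surjective (Subgroup.center G) a
  have hx : x ∉ Subgroup.center G := fun hc => ha ((QuotientGroup.eq_one_iff x).2 hc)
  rcases h.cb_cases hx with ⟨e, ec⟩ | ⟨e, ec⟩ | ⟨e, ec⟩ | ⟨e, ec, h2⟩
  · left
    rw [card_cen_quot_eq (by rw [e, ec]; exact Nat.Coprime.mul_right h.cqu h.cqv), e]
  · right; left
    rw [card_cen_quot_eq (by rw [e, ec]; exact Nat.Coprime.mul_right h.cqu.symm h.cuv), e]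
  · right; right; left
    rw [card_cen_quot_eq (by rw [e, ec]; exact Nat.Coprime.mul_right h.cqv.symm h.cuv.symm), e]
  · right; right
    have hd : (cen x).relIndex (pre x) ∣ 2 := by
      refine Nat.Coprime.dvd_of_dvd_mul_right (k := (cen x).relIndex (pre x)) (n := q * u) ?_
        (ec ▸ relIndex_pre_dvd_cix x)
      refine Nat.coprime_of_dvd fun r hr hrd hrqu => ?_
      have hrv : r ∣ v := e ▸ Dvd.dvd.mul_left ((prime_dvd_relIndex hr hrd).trans (orderOf_quot_dvd x)) 2
      exact hr.ne_one (Nat.eq_one_of_dvd_coprimes (Nat.Coprime.mul_left h.cqv h.cuv) hrqu hrv)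
    rw [card_cen_quot]
    rcases (Nat.dvd_prime Nat.prime_two).1 hd with e1 | e1 <;> rw [e1]
    · right; rw [mul_one, e]
    · left; rw [mul_comm, e]

theorem quot_card (h : Sizes G q u v) : Nat.card (G ⧸ Subgroup.center G) = q * (u * v) := by
  rw [← Subgroup.index_eq_card, h.index_center]

end Sizes

end Cfsg.Agent.Transfer.SizesPSL
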