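import Cfsg.Agent.Lib.Transfer.SizesPSL.Comp

/-!
The component of order `u`: abelian centralisers, with automiser of order two.
-/

set_option autoImplicit false
set_option maxHeartbeats 1000000

open scoped Pointwise

universe w

namespace Cfsg.Agent.Transfer.SizesPSL

open Cfsg Cfsg.Agent Cfsg.Agent.Transfer.ClassDisconnected Cfsg.Agent.Transfer.ClassThree

variable {G : Type w} [Group G] [Finite G] {p f q u v : ℕ}

namespace Hyp

variable (d : Hyp G p f q u v)

include d

theorem type_u {y x : G} (hy : Nat.card (cen y) = u) (hx : x ∈ cen y) (hx1 : x ≠ 1) :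
    Nat.card (cen x) = u := by
  obtain ⟨r, hr, hrd⟩ := Nat.exists_prime_and_dvd (mt orderOf_eq_one_iff.1 hx1)
  exact (d.cases_dvd hx1 hr (dvd_card_cen hrd)).2.1 (hy ▸ hrd.trans (Subgroup.orderOf_dvd_natCard _ hx))

theorem eq_u {a b : G} (ha : Nat.card (cen a) = u) (hb : Nat.card (cen b) = u) (ha1 : a ≠ 1)
    (h : Commute a b) (hc : (orderOf a).Coprime (orderOf b)) : cen a = cen b := by
  have hab : Nat.card (cen (a * b)) = u := d.type_u ha
    ((cen a).mul_mem (self_mem_cen a) (mem_cen.2 h.symm)) (mul_ne_one_of_coprime hc ha1)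
  rw [← Subgroup.eq_of_le_of_card_ge (cen_mul_le h hc) (le_of_eq (ha.trans hab.symm)),
    ← Subgroup.eq_of_le_of_card_ge (cen_mul_le' h hc) (le_of_eq (hb.trans hab.symm))]

theorem exists_prime_u {y x : G} (hy : Nat.card (cen y) = u) (hx : x ∈ cen y) (hx1 : x ≠ 1) :
    ∃ x' ∈ cen y, ∃ s : ℕ, s.Prime ∧ orderOf x' = s ∧ cen x = cen x' := by
  obtain ⟨s, j, hs, ho, -⟩ := exists_prime_order_pow hx1
  have h1 : x ^ j ∈ cen y := pow_mem hx j
  have h2 : x ^ j ≠ 1 := ne_one_of_prime hs ho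
  exact ⟨x ^ j, h1, s, hs, ho, Subgroup.eq_of_le_of_card_ge (centralizer_le_pow x j)
    (le_of_eq ((d.type_u hy h1 h2).trans (d.type_u hy hx hx1).symm))⟩

/-- The centraliser of an element of the second component is the centraliser of each of its elements. -/
theorem cen_eq_u {y x : G} (hy1 : y ≠ 1) (hy : Nat.card (cen y) = u) (hx : x ∈ cen y) (hx1 : x ≠ 1) :
    cen x = cen y := by
  classical
  by_cases hu : ∃ r : ℕ, r.Prime ∧ ∃ i, u = r ^ i
  · obtain ⟨r, hr, i, hi⟩ := hu
    haveI : Fact r.Prime := ⟨hr⟩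
    have hri : r ∣ u := by
      rcases i with _ | i
      · rw [pow_zero] at hi; have := d.u3; omega
      · exact hi ▸ dvd_pow_self r i.succ_ne_zero
    have hn : ¬ r ∣ q * v := fun h => by
      rcases hr.dvd_mul.1 h with h | h
      · exact (d.not_both hr).1 ⟨h, hri⟩
      · exact (d.not_both hr).2.2 ⟨hri, h⟩
    have syl : ∀ a : G, Nat.card (cen a) = u → ∃ R : Sylow r G, (R : Subgroup G) = cen a := fun a ha => by
      have h1 : cix a = q * v := d.cix_eq ha (by ring)
      exact ⟨(IsPGroup.of_card (n := i) (ha.trans hi)).toSylow (fun hd => hn (by rw [← h1]; exact hd)), IsPGroup.toSylow_coe _ _⟩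
    obtain ⟨R₀, hR₀⟩ := syl y hy
    set Q := Nat.card (Subgroup.center (R₀ : Subgroup G))
    have hconst : ∀ R : Sylow r G, Nat.card (Subgroup.center (R : Subgroup G)) = Q := fun R =>
      Nat.card_congr (Subgroup.centerCongr (R.equiv R₀)).toEquiv
    obtain ⟨hP, ⟨e, he, hUS⟩, -⟩ := d.counts
    haveI := Fintype.ofFinite (Sylow r G)
    have hsel : ∀ a : d.US, ∃ R : Sylow r G, ∃ h : (a : G) ∈ (R : Subgroup G),
        (⟨a, h⟩ : (R : Subgroup G)) ∈ Subgroup.center (R : Subgroup G) := by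
      rintro ⟨a, ha⟩
      obtain ⟨R, hR⟩ := syl a ha.2
      refine ⟨R, hR ▸ self_mem_cen a, Subgroup.mem_center_iff.2 fun g => Subtype.ext ?_⟩
      exact (mem_cen.1 (show (g : G) ∈ cen a from hR ▸ g.2)).eq
    choose Rf hmem hcen using hsel
    let Φ : d.US → Σ R : Sylow r G, {z : Subgroup.center (R : Subgroup G) // z ≠ 1} := fun a =>
      ⟨Rf a, ⟨⟨⟨a, hmem a⟩, hcen a⟩, fun h => a.2.1 (congrArg (fun z => ((z.1 : (Rf a : Subgroup G)) : G)) h)⟩⟩
    have hinj : Function.Injective Φ := fun a b hab => Subtype.ext (by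
      have := congrArg (fun s : (Σ R : Sylow r G, {z : Subgroup.center (R : Subgroup G) // z ≠ 1}) =>
        ((s.2.1.1 : (s.1 : Subgroup G)) : G)) hab
      exact this)
    have hle := Nat.card_le_card_of_injective Φ hinj
    rw [Nat.card_coe_set_eq, hUS, Nat.card_sigma] at hle
    have hsum : ∀ R : Sylow r G, Nat.card {z : Subgroup.center (R : Subgroup G) // z ≠ 1} = Q - 1 := by
      intro R
      haveI := Fintype.ofFinite (Subgroup.center (R : Subgroup G))
      rw [← hconst R, Nat.card_eq_fintype_card, Nat.card_eq_fintype_card, Fintype.card_subtype_compl,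
        Fintype.card_subtype_eq]
    rw [Finset.sum_congr rfl fun R _ => hsum R, Finset.sum_const, Finset.card_univ, smul_eq_mul] at hle
    have hidx : (R₀ : Subgroup G).index = q * v := hR₀ ▸ d.cix_eq hy (by ring)
    have hnum : Fintype.card (Sylow r G) ≤ q * v := by
      rw [← Nat.card_eq_fintype_card, ← hidx]
      exact Nat.le_of_dvd (Nat.pos_of_ne_zero Subgroup.index_ne_zero_of_finite) R₀.card_dvd_index
    have hqv : 0 < q * v := Nat.mul_pos (by have := d.q7; omega) d.v_pos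
    have heQ : e ≤ Q - 1 := by
      refine Nat.le_of_mul_le_mul_right ?_ hqv
      calc e * (q * v) ≤ _ := hle
        _ ≤ q * v * (Q - 1) := Nat.mul_le_mul_right _ hnum
        _ = (Q - 1) * (q * v) := by ring
    obtain ⟨c, hc⟩ : Q ∣ u := by
      rw [← hy, ← hR₀]
      exact Subgroup.card_subgroup_dvd_card _
    have hc1 : c = 1 := by
      have h3 := d.u3
      rcases c with _ | _ | _ | c
      · omega
      · rfl
      · exact absurd ⟨Q, by rw [hc]; ring⟩ d.uodd
      · exfalso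
        have : Q * 3 ≤ u := by rw [hc]; exact Nat.mul_le_mul_left _ (by omega)
        omega
    rw [hc1, mul_one] at hc
    have htop : Subgroup.center (R₀ : Subgroup G) = ⊤ :=
      Subgroup.eq_top_of_card_eq _ (show Q = _ by rw [hR₀, hy, hc])
    refine (Subgroup.eq_of_le_of_card_ge (fun g hg => mem_cen.2 ?_)
      (le_of_eq ((d.type_u hy hx hx1).trans hy.symm))).symm
    rw [← hR₀] at hg hx
    have hg' : (⟨g, hg⟩ : (R₀ : Subgroup G)) ∈ Subgroup.center (R₀ : Subgroup G) := htop ▸ Subgroup.mem_top _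
    exact (congrArg Subtype.val (Subgroup.mem_center_iff.1 hg' ⟨x, hx⟩)).symm
  · obtain ⟨y', hy', s₀, hs₀, hys, hye⟩ := d.exists_prime_u hy (self_mem_cen y) hy1
    obtain ⟨r', hr', hr'u, hne⟩ : ∃ r' : ℕ, r'.Prime ∧ r' ∣ u ∧ r' ≠ s₀ := by
      by_contra hcon
      push Not at hcon
      exact hu ⟨s₀, hs₀, _, Nat.eq_prime_pow_of_unique_prime_dvd (by have := d.u3; omega)
        fun {r'} hr hd => hcon r' hr hd⟩
    have key : ∀ {z : G} {s : ℕ}, z ∈ cen y → s.Prime → orderOf z = s → s ≠ s₀ → cen z = cen y := by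
      intro z s hz hs hzo hss
      rw [hye] at hz
      rw [hye]
      refine d.eq_u (d.type_u (hye ▸ hy) hz (ne_one_of_prime hs hzo)) (hye ▸ hy) (ne_one_of_prime hs hzo)
        (mem_cen.1 hz) ?_
      rw [hzo, hys]; exact (Nat.coprime_primes hs hs₀).2 hss
    obtain ⟨x', hx', s, hs, hxs, hxe⟩ := d.exists_prime_u hy hx hx1
    rw [hxe]
    by_cases hss : s = s₀
    · haveI : Fact r'.Prime := ⟨hr'⟩
      obtain ⟨b, hb⟩ := exists_prime_orderOf_dvd_card' (G := cen y) r' (hy ▸ hr'u)
      rw [← Subgroup.orderOf_coe] at hb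
      have hbe := key b.2 hr' hb hne
      rw [← hbe] at hx' ⊢
      have hby : Nat.card (cen (b : G)) = u := by rw [hbe]; exact hy
      refine d.eq_u (d.type_u hby hx' (ne_one_of_prime hs hxs)) hby (ne_one_of_prime hs hxs)
        (mem_cen.1 hx') ?_
      rw [hxs, hb, hss]; exact (Nat.coprime_primes hs₀ hr').2 (Ne.symm hne)
    · exact key hx' hs hxs hss

theorem card_normalizer_u {y : G} (hy1 : y ≠ 1) (hy : Nat.card (cen y) = u) :
    Nat.card (Subgroup.normalizer (cen y : Set G)) = 2 * u := by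
  classical
  have hTI : ∀ g a : G, a ∈ cen y → a ≠ 1 → g * a * g⁻¹ ∈ cen y →
      g ∈ Subgroup.normalizer (cen y : Set G) := by
    intro g a ha ha1 hga
    have h1 := d.cen_eq_u hy1 hy ha ha1
    have h2 := d.cen_eq_u hy1 hy hga (fun e => ha1 (conj_eq_one_iff.1 e))
    rw [Subgroup.mem_normalizer_iff]
    intro x
    constructor <;> intro hx
    · rw [← h2]; exact conj_mem_cen.2 (h1 ▸ hx)
    · rw [← h1]; exact conj_mem_cen.1 (h2 ▸ hx)
  have hcov : ∀ b : G, b ∈ d.US ↔ ∃ g a : G, a ∈ cen y ∧ a ≠ 1 ∧ g * a * g⁻¹ = b := by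
    intro b
    constructor
    · intro hb
      obtain ⟨r, hr, hru⟩ := Nat.exists_prime_and_dvd (show u ≠ 1 by have := d.u3; omega)
      haveI : Fact r.Prime := ⟨hr⟩
      have hn : ¬ r ∣ q * v := fun h => by
        rcases hr.dvd_mul.1 h with h | h
        · exact (d.not_both hr).1 ⟨h, hru⟩
        · exact (d.not_both hr).2.2 ⟨hru, h⟩
      obtain ⟨P, hP⟩ := exists_sylow_le_centralizer (u := y) (r := r)
        (fun hd => hn (by rw [← d.cix_eq hy (m := q * v) (by ring)]; exact hd))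
      obtain ⟨P', hP'⟩ := exists_sylow_le_centralizer (u := b) (r := r)
        (fun hd => hn (by rw [← d.cix_eq hb.2 (m := q * v) (by ring)]; exact hd))
      obtain ⟨c, hc⟩ := exists_prime_orderOf_dvd_card' (G := (P : Subgroup G)) r
        (P.dvd_card_of_dvd_card (by rw [d.hcard]; exact Dvd.dvd.mul_left (hru.trans (dvd_mul_right u v)) q))
      obtain ⟨g, hg⟩ := MulAction.exists_smul_eq G P P'
      have hc1 : (c : G) ≠ 1 := ne_one_of_prime hr (by rw [Subgroup.orderOf_coe, hc])
      have hmem : g * c * g⁻¹ ∈ (P' : Subgroup G) := by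
        rw [← hg, Sylow.coe_subgroup_smul]
        exact Subgroup.mem_map.2 ⟨c, c.2, rfl⟩
      have h1 := d.cen_eq_u hy1 hy (hP c.2) hc1
      have h2 := d.cen_eq_u hb.1 hb.2 (hP' hmem) (fun e => hc1 (conj_eq_one_iff.1 e))
      refine ⟨g, g⁻¹ * b * g, ?_, fun e => hb.1 ?_, by group⟩
      · rw [← h1, ← conj_mem_cen (g := g), h2, show g * (g⁻¹ * b * g) * g⁻¹ = b by group]
        exact self_mem_cen b
      · calc b = g * (g⁻¹ * b * g) * g⁻¹ := by group
          _ = 1 := by rw [e]; group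
    · rintro ⟨g, a, ha, ha1, rfl⟩
      exact ⟨fun e => ha1 (conj_eq_one_iff.1 e),
        (cen_card_conj (isConj_iff.2 ⟨g, rfl⟩)).symm.trans (d.type_u hy ha ha1)⟩
  have h := ncard_TI (cen y) d.US hTI hcov
  obtain ⟨-, ⟨e, he, hUS⟩, -⟩ := d.counts
  rw [hUS, d.hcard, hy, show u - 1 = 2 * e by omega] at h
  have hpos : 0 < e * (q * v) := Nat.mul_pos (by have := d.u3; omega)
    (Nat.mul_pos (by have := d.q7; omega) d.v_pos)
  refine Nat.eq_of_mul_eq_mul_left hpos (h.symm.trans ?_)
  ring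

end Hyp

end Cfsg.Agent.Transfer.SizesPSL
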