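import Cfsg.Agent.Lib.Transfer.SizesPSL.OddFinish
import Cfsg.Agent.S0731
import Cfsg.Agent.Lib.Classical.DicksonPGLBasic
import Cfsg.Agent.Lib.Block.SpecPSL.Identify

/-!
The action on the Sylow `p`-subgroups is a Zassenhaus action, and the group is `PSL(2, q)`.
-/

set_option autoImplicit false
set_option maxHeartbeats 1000000

open scoped Pointwise

universe w x

namespace Cfsg.Agent.Transfer.SizesPSL

open Cfsg Cfsg.Agent Cfsg.Agent.Transfer.ClassDisconnected Cfsg.Agent.Transfer.ClassThree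

variable {G : Type w} [Group G] [Finite G] {p f q u v : ℕ}

namespace Hyp

variable (d : Hyp G p f q u v)

include d

theorem cen_eq_sylow (R : Sylow p G) {a : G} (ha : a ∈ (R : Subgroup G)) (ha1 : a ≠ 1) :
    cen a = (R : Subgroup G) :=
  (Subgroup.eq_of_le_of_card_ge (fun b hb => mem_cen.2 (d.sylow_comm R hb ha))
    (le_of_eq ((d.mem_p R.isPGroup' ha ha1).2.trans (d.card_sylow R).symm))).symm

theorem card_stab_mul (R : Sylow p G) :
    Nat.card (Sylow p G) = q + 1 ∧
      2 * Nat.card (Subgroup.normalizer ((R : Subgroup G) : Set G)) = q * (q - 1) ∧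
      Nat.card G = (q + 1) * Nat.card (Subgroup.normalizer ((R : Subgroup G) : Set G)) := by
  haveI := d.p_fact
  have hTI : ∀ g a : G, a ∈ (R : Subgroup G) → a ≠ 1 → g * a * g⁻¹ ∈ (R : Subgroup G) →
      g ∈ Subgroup.normalizer ((R : Subgroup G) : Set G) := by
    intro g a ha ha1 hga
    have h1 := d.cen_eq_sylow R ha ha1
    have h2 := d.cen_eq_sylow R hga (fun e => ha1 (conj_eq_one_iff.1 e))
    rw [Subgroup.mem_normalizer_iff]
    intro x
    constructor <;> intro hx
    · rw [← h2]; exact conj_mem_cen.2 (h1 ▸ hx)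
    · rw [← h1]; exact conj_mem_cen.1 (h2 ▸ hx)
  have hcov : ∀ b : G, b ∈ d.PS ↔ ∃ g a : G, a ∈ (R : Subgroup G) ∧ a ≠ 1 ∧ g * a * g⁻¹ = b := by
    intro b
    constructor
    · intro hb
      obtain ⟨i, hi⟩ := exists_pow_of_mem (d.isPGroup_cen hb.2) (self_mem_cen b)
      obtain ⟨g, hg⟩ := exists_conj_mem_sylow R hi
      exact ⟨g⁻¹, g * b * g⁻¹, hg, fun e => hb.1 (conj_eq_one_iff.1 e), by group⟩
    · rintro ⟨g, a, ha, ha1, rfl⟩
      exact ⟨fun e => ha1 (conj_eq_one_iff.1 e),
        (cen_card_conj (isConj_iff.2 ⟨g, rfl⟩)).symm.trans (d.mem_p R.isPGroup' ha ha1).2⟩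
  have h := ncard_TI (R : Subgroup G) d.PS hTI hcov
  set N := Nat.card (Subgroup.normalizer ((R : Subgroup G) : Set G)) with hN
  rw [d.card_sylow R] at h
  have hq7 := d.q7
  obtain ⟨hP, -, -⟩ := d.counts
  have hsq : q * q - 1 = (q - 1) * (q + 1) := by
    obtain ⟨c, rfl⟩ : ∃ c, q = c + 1 := ⟨q - 1, by omega⟩
    rw [Nat.add_sub_cancel, show (c + 1) * (c + 1) = c * (c + 1 + 1) + 1 by ring, Nat.add_sub_cancel]
  rw [show (d.PS).ncard = (q - 1) * (q + 1) by omega] at h
  have hG : Nat.card G = (q + 1) * N := by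
    refine Nat.eq_of_mul_eq_mul_right (show 0 < q - 1 by omega) (h.trans ?_)
    ring
  have hidx : (Subgroup.normalizer ((R : Subgroup G) : Set G)).index = q + 1 := by
    refine Nat.eq_of_mul_eq_mul_left (Nat.card_pos : 0 < N) ?_
    rw [Subgroup.card_mul_index, hG]
    ring
  refine ⟨(Sylow.card_eq_index_normalizer R).trans hidx, ?_, hG⟩
  have h2uv : 2 * (u * v) + 1 = q * q := by
    rcases d.rel with ⟨h1, h2⟩ | ⟨h1, h2⟩
    · subst h2; nlinarith
    · subst h2; subst h1; ring
  refine Nat.eq_of_mul_eq_mul_left (show 0 < q + 1 by omega) ?_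
  calc (q + 1) * (2 * N) = 2 * Nat.card G := by rw [hG]; ring
    _ = q * (2 * (u * v)) := by rw [d.hcard]; ring
    _ = (q + 1) * (q * (q - 1)) := by
      rw [show 2 * (u * v) = (q - 1) * (q + 1) by omega]; ring

theorem free_fix (R S : Sylow p G) (hSR : S ≠ R) {r : G} (hr : r ∈ (R : Subgroup G)) (hfix : r • S = S) :
    r = 1 := by
  haveI := d.p_fact
  by_contra hr1
  have hrS : r ∈ (S : Subgroup G) := by
    have h : r ∈ Subgroup.zpowers r ⊓ Subgroup.normalizer ((S : Subgroup G) : Set G) :=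
      ⟨Subgroup.mem_zpowers r, Sylow.smul_eq_iff_mem_normalizer.1 hfix⟩
    exact (((R.isPGroup'.to_le (Subgroup.zpowers_le.2 hr)).inf_normalizer_sylow S).le h).2
  exact hSR (Sylow.ext ((d.cen_eq_sylow S hrS hr1).symm.trans (d.cen_eq_sylow R hr hr1)))

omit d [Finite G] in
theorem smul_self_of_mem {R : Sylow p G} {r : G} (hr : r ∈ (R : Subgroup G)) : r • R = R :=
  Sylow.smul_eq_iff_mem_normalizer.2 (Subgroup.le_normalizer hr)

theorem regular (R S S' : Sylow p G) (hS : S ≠ R) (hS' : S' ≠ R) :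
    ∃! r : (R : Subgroup G), (r : G) • S = S' := by
  classical
  haveI := Fintype.ofFinite (Sylow p G)
  let φ : ↥(R : Subgroup G) → {X : Sylow p G // X ≠ R} := fun r => ⟨(r : G) • S, fun e => hS (by
    have h := smul_self_of_mem (R := R) (r := (r : G)) r.2
    exact MulAction.injective (r : G) (e.trans h.symm))⟩
  have hinj : Function.Injective φ := fun a b hab => by
    have h : (a : G) • S = (b : G) • S := congrArg Subtype.val hab
    have h1 : ((b : G)⁻¹ * (a : G)) • S = S := by rw [mul_smul, h, inv_smul_smul]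
    exact Subtype.ext (inv_mul_eq_one.1 (d.free_fix R S hS (mul_mem (inv_mem b.2) a.2) h1)).symm
  have hcard : Nat.card {X : Sylow p G // X ≠ R} = q := by
    rw [Nat.card_eq_fintype_card, Fintype.card_subtype_compl, Fintype.card_subtype_eq,
      ← Nat.card_eq_fintype_card, (d.card_stab_mul R).1, Nat.add_sub_cancel]
  have hb := (Nat.bijective_iff_injective_and_card φ).2 ⟨hinj, (d.card_sylow R).trans hcard.symm⟩
  obtain ⟨r, hr⟩ := hb.2 ⟨S', hS'⟩
  exact ⟨r, congrArg Subtype.val hr, fun r' hr' => hinj ((Subtype.ext hr').trans hr.symm)⟩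

theorem free_three {g : G} {a b c : Sylow p G} (hab : a ≠ b) (hbc : b ≠ c) (hac : a ≠ c) (ha : g • a = a)
    (hb : g • b = b) (hc : g • c = c) : g = 1 := by
  obtain ⟨r, hr, huniq⟩ := d.regular a b c hab.symm hac.symm
  have hgN := Sylow.smul_eq_iff_mem_normalizer.1 ha
  have hconj : g * (r : G) * g⁻¹ ∈ (a : Subgroup G) := conj_mem_of_normalizer hgN r.2
  have h1 := huniq ⟨_, hconj⟩ (by
    show (g * (r : G) * g⁻¹) • b = c
    rw [mul_smul, mul_smul, inv_smul_eq_iff.2 hb.symm, hr, hc])
  have hcomm : Commute g (r : G) := mul_inv_eq_iff_eq_mul.1 (congrArg Subtype.val h1)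
  have hr1 : (r : G) ≠ 1 := fun e => hbc (by rw [← hr, e, one_smul])
  exact d.free_fix a b hab.symm (d.cen_eq_sylow a r.2 hr1 ▸ mem_cen.2 hcomm) hb

theorem exists_three : ∃ a b c : Sylow p G, a ≠ b ∧ a ≠ c ∧ b ≠ c := by
  classical
  haveI := Fintype.ofFinite (Sylow p G)
  obtain ⟨R⟩ : Nonempty (Sylow p G) := inferInstance
  have h := (d.card_stab_mul R).1
  rw [Nat.card_eq_fintype_card] at h
  obtain ⟨a, b, c, hab, hac, hbc⟩ := Fintype.two_lt_card_iff.1 (show 2 < Fintype.card (Sylow p G) by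
    have := d.q7; omega)
  exact ⟨a, b, c, hab, hac, hbc⟩

theorem zassenhaus : Cfsg.IsZassenhausGroup G (Sylow p G) := by
  classical
  haveI := d.p_fact
  obtain ⟨A, B, C, hAB, hAC, hBC⟩ := d.exists_three
  obtain ⟨hsyl, hN, hG⟩ := d.card_stab_mul A
  have hq7 := d.q7
  refine ⟨⟨fun {g h} hgh => ?_⟩, ?_, fun g a b c => d.free_three, ?_, ?_⟩
  · have hfix : ∀ X : Sylow p G, (h⁻¹ * g) • X = X := fun X => by rw [mul_smul, hgh, inv_smul_smul]
    exact (inv_mul_eq_one.1 (d.free_three hAB hBC hAC (hfix A) (hfix B) (hfix C))).symm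
  · rw [MulAction.is_two_pretransitive_iff]
    intro a b c e hab hce
    obtain ⟨g, hg⟩ := MulAction.exists_smul_eq G a c
    have hgb : g • b ≠ c := fun h => hab (MulAction.injective g (hg.trans h.symm))
    obtain ⟨r, hr, -⟩ := d.regular c (g • b) e hgb hce.symm
    exact ⟨(r : G) * g, by rw [mul_smul, hg, smul_self_of_mem r.2], by rw [mul_smul, hr]⟩
  · by_contra hcon
    push Not at hcon
    let φ : Subgroup.normalizer ((A : Subgroup G) : Set G) → {X : Sylow p G // X ≠ A} := fun g =>
      ⟨(g : G) • B, fun e => hAB.symm (MulAction.injective (g : G)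
        (e.trans (Sylow.smul_eq_iff_mem_normalizer.2 g.2).symm))⟩
    have hinj : Function.Injective φ := fun a b hab => by
      have h : (a : G) • B = (b : G) • B := congrArg Subtype.val hab
      have h1 : ((b : G)⁻¹ * (a : G)) • B = B := by rw [mul_smul, h, inv_smul_smul]
      have h2 : ((b : G)⁻¹ * (a : G)) • A = A :=
        Sylow.smul_eq_iff_mem_normalizer.2 (mul_mem (inv_mem b.2) a.2)
      refine Subtype.ext (inv_mul_eq_one.1 ?_).symm
      by_contra hne
      exact hcon _ hne A B hAB h2 h1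
    have hle := Nat.card_le_card_of_injective φ hinj
    haveI := Fintype.ofFinite (Sylow p G)
    rw [Nat.card_eq_fintype_card (α := {X : Sylow p G // X ≠ A}), Fintype.card_subtype_compl,
      Fintype.card_subtype_eq, ← Nat.card_eq_fintype_card, hsyl] at hle
    have : 3 * q ≤ 2 * q := by
      calc 3 * q ≤ q * (q - 1) := by rw [mul_comm]; exact Nat.mul_le_mul_left q (by omega)
        _ = _ := hN.symm
        _ ≤ 2 * q := by omega
    omega
  · intro N hNn hNt
    by_contra hcon
    push Not at hcon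
    have hcN : Nat.card N = q + 1 := by
      rw [← hsyl, ← MulAction.index_stabilizer_of_transitive N A, hcon A, Subgroup.index_bot]
    haveI : Nontrivial N := by rw [← Finite.one_lt_card_iff_nontrivial, hcN]; omega
    obtain ⟨⟨a, haN⟩, ha⟩ := exists_ne (1 : N)
    have ha1 : a ≠ 1 := fun e => ha (Subtype.ext e)
    have hsub : cl a ⊆ (N : Set G) \ {1} := fun b hb => by
      obtain ⟨c, rfl⟩ := isConj_iff.1 (hb : IsConj a b)
      exact ⟨hNn.conj_mem a haN c, fun e => ha1 (conj_eq_one_iff.1 e)⟩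
    have hcix : cix a ≤ q := by
      rw [← ncard_cl]
      refine (Set.ncard_le_ncard hsub (Set.toFinite _)).trans ?_
      rw [Set.ncard_sdiff_singleton_of_mem (one_mem N), ← Nat.card_coe_set_eq]
      exact le_of_eq (by rw [show Nat.card ((N : Set G)) = q + 1 from hcN]; rfl)
    have hcen : Nat.card (cen a) ≤ q + 1 := by
      rcases d.rel with ⟨h1, h2⟩ | ⟨h1, h2⟩ <;> rcases d.hcen a ha1 with e | e | e | e <;> omega
    have h1 := card_mul_cix a
    rw [hG] at h1
    have hN3 : 3 * q ≤ Nat.card (Subgroup.normalizer ((A : Subgroup G) : Set G)) := by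
      have : q * 6 ≤ q * (q - 1) := Nat.mul_le_mul_left q (by omega)
      omega
    have h2 : Nat.card (cen a) * cix a ≤ (q + 1) * q := Nat.mul_le_mul hcen hcix
    rw [h1] at h2
    have := Nat.le_of_mul_le_mul_left h2 (by omega)
    omega

theorem iso_psl {F : Type x} [Field F] [Fintype F] (hF : Fintype.card F = q) :
    Nonempty (G ≃* Matrix.ProjectiveSpecialLinearGroup (Fin 2) F) := by
  classical
  haveI := d.p_fact
  obtain ⟨A, -, -, -, -, -⟩ := d.exists_three
  obtain ⟨hsyl, hN, hG⟩ := d.card_stab_mul A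
  have hq7 := d.q7
  have hG2 : 2 * Nat.card G = q * ((q - 1) * (q + 1)) := by
    rw [hG, show 2 * ((q + 1) * Nat.card (Subgroup.normalizer ((A : Subgroup G) : Set G))) =
      (q + 1) * (2 * Nat.card (Subgroup.normalizer ((A : Subgroup G) : Set G))) by ring, hN]
    ring
  have hst : MulAction.stabilizer G A = Subgroup.normalizer ((A : Subgroup G) : Set G) :=
    Sylow.stabilizer_eq_normalizer A
  rcases Cfsg.Agent.S0731.result d.zassenhaus A (A : Subgroup G) (hst ▸ Subgroup.le_normalizer)
      (by rw [hst]; exact Subgroup.normal_subgroupOf_of_le_normalizer le_rfl)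
      ⟨⟨fun a b => Subtype.ext (d.sylow_comm A a.2 b.2)⟩⟩
      (fun y z hy hz => d.regular A y z hy hz) with ⟨h3, -⟩ | ⟨K, iK, iK', hchar, ⟨e⟩⟩
  · exfalso
    haveI := h3
    haveI := Fintype.ofFinite (Sylow p G)
    haveI : Nonempty (Fin 3 ↪ Sylow p G) := Function.Embedding.nonempty_of_card_le (by
      rw [Fintype.card_fin, ← Nat.card_eq_fintype_card, hsyl]; omega)
    obtain ⟨t⟩ := ‹Nonempty (Fin 3 ↪ Sylow p G)›
    have hle := Nat.card_le_card_of_surjective (fun g : G => g • t) (MulAction.surjective_smul G t)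
    rw [Nat.card_eq_fintype_card (α := Fin 3 ↪ Sylow p G), Fintype.card_embedding_eq, Fintype.card_fin,
      ← Nat.card_eq_fintype_card, hsyl] at hle
    simp only [Nat.descFactorial_succ, Nat.descFactorial_zero, mul_one, Nat.sub_zero] at hle
    rw [show q + 1 - 2 = q - 1 by omega, show q + 1 - 1 = q by omega,
      show (q - 1) * (q * (q + 1)) = q * ((q - 1) * (q + 1)) by ring, ← hG2] at hle
    have := Nat.card_pos (α := G)
    omega
  · have hodd : Odd (Fintype.card K) := by
      refine Nat.odd_iff.2 ?_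
      exact FiniteField.odd_card_of_char_ne_two hchar
    have hcard := Cfsg.Agent.Dickson.PGLMax.card_psl_two (F := K) hodd
    rw [← Nat.card_congr e.toEquiv, mul_comm, hG2] at hcard
    have hKq : Fintype.card K = q := by
      have hK2 := Fintype.one_lt_card (α := K)
      rcases lt_trichotomy (Fintype.card K) q with hlt | heq | hgt
      · exfalso
        have h1 : Fintype.card K * ((Fintype.card K - 1) * (Fintype.card K + 1)) <
            q * ((q - 1) * (q + 1)) :=
          Nat.mul_lt_mul_of_lt_of_le hlt (Nat.mul_le_mul (by omega) (by omega))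
            (Nat.mul_pos (by omega) (by omega))
        omega
      · exact heq
      · exfalso
        have h1 : q * ((q - 1) * (q + 1)) <
            Fintype.card K * ((Fintype.card K - 1) * (Fintype.card K + 1)) :=
          Nat.mul_lt_mul_of_lt_of_le hgt (Nat.mul_le_mul (by omega) (by omega))
            (Nat.mul_pos (by omega) (by omega))
        omega
    obtain ⟨e'⟩ := Cfsg.Agent.Block.SpecPSL.psl_congr (K := K) (F := F) (hKq.trans hF.symm)
    exact ⟨e.trans e'⟩

end Hyp

end Cfsg.Agent.Transfer.SizesPSL
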